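/-
The point stabiliser of a Zassenhaus group together with its regular kernel.
-/
import Cfsg.Agent.Lib.Perm.ZassenhausOdd
import Cfsg.Agent.Lib.CharTheory.FeitTheorem
import Cfsg.Agent.Lib.CharTheory.TIKernel
import Cfsg.Agent.Lib.CharTheory.Irr
import Cfsg.Agent.Lib.NilpotentCommute

set_option autoImplicit false
set_option linter.unusedSectionVars false

namespace CfsgLib.ZassenhausDegree

open MulAction CfsgLib.Zassenhaus CfsgLib.ZassenhausOdd

universe u v

/-- A Zassenhaus group with two points and the kernel of the first stabiliser. -/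
structure Datum (G : Type u) (Ω : Type v) [Group G] [MulAction G Ω] [Fintype Ω] where
  isZ : Cfsg.IsZassenhausGroup G Ω
  a : Ω
  b : Ω
  hab : a ≠ b
  H : Subgroup G
  le : H ≤ stabilizer G a
  card : Nat.card H + 1 = Fintype.card Ω
  fix : ∀ u ∈ H, u ≠ 1 → ∀ c : Ω, u • c = c → c = a

variable {G : Type u} {Ω : Type v} [Group G] [MulAction G Ω] [Fintype Ω]

/-- Every finite Zassenhaus group gives data. -/
theorem exists_datum [Finite G] (hZ : Cfsg.IsZassenhausGroup G Ω) : Nonempty (Datum G Ω) := by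
  classical
  haveI := hZ.1
  obtain ⟨g, -, a, b, hab, -, -⟩ := hZ.2.2.2.1
  obtain ⟨Q, hQa, -, hQf, hQt, -⟩ :=
    CfsgLib.ZassenhausNormal.exists_Q hZ.2.1 hZ.2.2.1 hZ.2.2.2.1 a
  have hne : ∀ u ∈ Q, u • b ≠ a := fun u hu e => hab.symm
    (MulAction.injective u (e.trans (mem_stabilizer_iff.mp (hQa hu)).symm))
  have e : Nat.card Q = Nat.card {c : Ω // c ≠ a} := by
    refine Nat.card_eq_of_bijective (fun u : Q => ⟨(u : G) • b, hne u u.2⟩) ⟨fun u v e => ?_, fun c => ?_⟩
    · by_contra huv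
      refine hab.symm (hQf ((v : G)⁻¹ * u) (mul_mem (inv_mem v.2) u.2)
        (fun e1 => huv (Subtype.ext (inv_mul_eq_one.mp e1).symm)) b ?_)
      rw [mul_smul, show (u : G) • b = (v : G) • b from congrArg Subtype.val e, inv_smul_smul]
    · obtain ⟨q, hq, hqb⟩ := hQt b c hab.symm c.2
      exact ⟨⟨q, hq⟩, Subtype.ext hqb⟩
  refine ⟨⟨hZ, a, b, hab, Q, hQa, ?_, hQf⟩⟩
  have := card_ge_three hZ
  rw [e, Nat.card_eq_fintype_card, Fintype.card_subtype_compl, Fintype.card_subtype_eq]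
  omega

namespace Datum

variable (P : Datum G Ω)

/-- The stabiliser of the first point. -/
abbrev A : Subgroup G := stabilizer G P.a

/-- The kernel inside the stabiliser. -/
abbrev K : Subgroup P.A := P.H.subgroupOf P.A

/-- The stabiliser of both points. -/
abbrev E : Subgroup G := stabilizer G P.a ⊓ stabilizer G P.b

theorem mem_A {g : G} : g ∈ P.A ↔ g • P.a = P.a := mem_stabilizer_iff

theorem mem_E {g : G} : g ∈ P.E ↔ g • P.a = P.a ∧ g • P.b = P.b := by
  rw [Subgroup.mem_inf, mem_stabilizer_iff, mem_stabilizer_iff]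

theorem card_H_add_one : Nat.card P.H + 1 = Fintype.card Ω := P.card

theorem two_le : 2 ≤ Nat.card P.H := by
  have := card_ge_three P.isZ
  have := P.card
  omega

variable [Finite G]

theorem conj_mem {x u : G} (hx : x ∈ P.A) (hu : u ∈ P.H) : x * u * x⁻¹ ∈ P.H := by
  have hm : x * u * x⁻¹ ∈ P.A := mul_mem (mul_mem hx (P.le hu)) (inv_mem hx)
  rw [regular_normal P.isZ P.a P.le P.card P.fix hm]
  by_cases hu1 : u = 1
  · left; rw [hu1, mul_one, mul_inv_cancel]
  right
  intro c hc e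
  refine hc ?_
  rw [mul_smul, mul_smul, ← eq_inv_smul_iff] at e
  have := P.fix u hu hu1 _ e
  rw [inv_smul_eq_iff, P.mem_A.mp hx] at this
  exact this

instance K_normal : P.K.Normal :=
  ⟨fun u hu x => Subgroup.mem_subgroupOf.mpr (P.conj_mem x.2 (Subgroup.mem_subgroupOf.mp hu))⟩

omit [Finite G] in
theorem fix_of_conj {g u : G} (hu : u ∈ P.H) (hv : g * u * g⁻¹ ∈ P.H) (hu1 : u ≠ 1) : g ∈ P.A := by
  have h1 : g * u * g⁻¹ ≠ 1 := fun e => hu1 (by rwa [mul_inv_eq_one, mul_eq_left] at e)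
  exact P.mem_A.mpr (P.fix _ hv h1 (g • P.a) (by
    rw [mul_smul, mul_smul, inv_smul_smul, P.mem_A.mp (P.le hu)]))

theorem cent {g u : G} (hu : u ∈ P.H) (hu1 : u ≠ 1) (hc : g * u = u * g) : g ∈ P.H := by
  have hga : g ∈ P.A := P.fix_of_conj hu (by rw [hc, mul_inv_cancel_right]; exact hu) hu1
  rw [regular_normal P.isZ P.a P.le P.card P.fix hga]
  by_contra hcon
  push Not at hcon
  obtain ⟨hg1, c, hca, hgc⟩ := hcon
  have h2 : g • u • c = u • c := by rw [← mul_smul, hc, mul_smul, hgc]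
  rcases eq_of_two_fix P.isZ hg1 hca.symm (P.mem_A.mp hga) hgc h2 with e | e
  · exact hca (MulAction.injective u (e.trans (P.mem_A.mp (P.le hu)).symm))
  · exact hca (P.fix u hu hu1 c e)

theorem centralizer_le : ∀ k ∈ P.K, k ≠ 1 → Subgroup.centralizer ({k} : Set P.A) ≤ P.K := by
  intro k hk hk1 x hx
  rw [Subgroup.mem_centralizer_singleton_iff] at hx
  exact Subgroup.mem_subgroupOf.mpr (P.cent (Subgroup.mem_subgroupOf.mp hk)
    (fun e => hk1 (Subtype.ext e)) (congrArg Subtype.val hx))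

omit [Finite G] in
theorem ti : ∀ g : G, g ∉ P.A → ∀ t ∈ (Subtype.val '' (P.K : Set P.A) : Set G),
    g * t * g⁻¹ ∈ (Subtype.val '' (P.K : Set P.A) : Set G) → t = 1 := by
  rintro g hg _ ⟨t, ht, rfl⟩ ⟨s, hs, e⟩
  by_contra h1
  refine hg (P.fix_of_conj (Subgroup.mem_subgroupOf.mp ht) ?_ h1)
  rw [← e]
  exact Subgroup.mem_subgroupOf.mp hs

omit [Finite G] in
theorem inj_smul {u v : G} (hu : u ∈ P.H) (hv : v ∈ P.H) {c : Ω} (hc : c ≠ P.a) (e : u • c = v • c) : u = v := by
  by_contra hne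
  exact hc (P.fix _ (mul_mem (inv_mem hv) hu) (fun e1 => hne (inv_mul_eq_one.mp e1).symm) c
    (by rw [mul_smul, e, inv_smul_smul]))

theorem exists_move {c : Ω} (hc : c ≠ P.a) : ∃ u ∈ P.H, u • P.b = c := by
  classical
  let T : P.H → {z : Ω // z ≠ P.a} := fun u => ⟨(u : G) • P.b, fun e => P.hab.symm
    (MulAction.injective (u : G) (e.trans (P.mem_A.mp (P.le u.2)).symm))⟩
  have hT : Function.Injective T := fun u v e =>
    Subtype.ext (P.inj_smul u.2 v.2 P.hab.symm (congrArg Subtype.val e))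
  have hle : Nat.card {z : Ω // z ≠ P.a} ≤ Nat.card P.H := by
    rw [Nat.card_eq_fintype_card, Fintype.card_subtype_compl, Fintype.card_subtype_eq]
    have := P.card
    omega
  obtain ⟨u, hu⟩ := (hT.bijective_of_nat_card_le hle).2 ⟨c, hc⟩
  exact ⟨u, u.2, congrArg Subtype.val hu⟩

theorem decomp {x : G} (hx : x ∈ P.A) : ∃ u ∈ P.H, ∃ d ∈ P.E, x = u * d := by
  have hxb : x • P.b ≠ P.a := fun e => P.hab.symm (MulAction.injective x (e.trans (P.mem_A.mp hx).symm))
  obtain ⟨u, hu, e⟩ := P.exists_move hxb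
  refine ⟨u, hu, u⁻¹ * x, P.mem_E.mpr ⟨?_, ?_⟩, (mul_inv_cancel_left u x).symm⟩
  · rw [mul_smul, P.mem_A.mp hx, inv_smul_eq_iff, P.mem_A.mp (P.le hu)]
  · rw [mul_smul, ← e, inv_smul_smul]

omit [Finite G] in
theorem disjoint {g : G} (hH : g ∈ P.H) (hE : g ∈ P.E) : g = 1 := by
  by_contra h1
  exact P.hab.symm (P.fix g hH h1 P.b (P.mem_E.mp hE).2)

theorem card_A : Nat.card P.A = Nat.card P.H * Nat.card P.E := by
  rw [← Nat.card_prod]
  refine (Nat.card_eq_of_bijective (fun q : P.H × P.E =>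
    (⟨(q.1 : G) * q.2, mul_mem (P.le q.1.2) (Subgroup.mem_inf.mp q.2.2).1⟩ : P.A)) ⟨?_, ?_⟩).symm
  · rintro ⟨u, d⟩ ⟨v, d'⟩ e
    have e1 : (u : G) * d = v * d' := congrArg Subtype.val e
    have e2 : (v : G)⁻¹ * u = (d' : G) * (d : G)⁻¹ := by
      rw [inv_mul_eq_iff_eq_mul, ← mul_assoc, eq_mul_inv_iff_mul_eq]
      exact e1
    have e3 : (v : G)⁻¹ * u = 1 :=
      P.disjoint (mul_mem (inv_mem v.2) u.2) (by rw [e2]; exact mul_mem d'.2 (inv_mem d.2))
    obtain rfl : v = u := Subtype.ext (inv_mul_eq_one.mp e3)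
    obtain rfl : d = d' := Subtype.ext (mul_left_cancel e1)
    rfl
  · intro x
    obtain ⟨u, hu, d, hd, e⟩ := P.decomp x.2
    exact ⟨⟨⟨u, hu⟩, ⟨d, hd⟩⟩, Subtype.ext e.symm⟩

theorem card_K : Nat.card P.K = Nat.card P.H :=
  Nat.card_congr (Subgroup.subgroupOfEquivOfLe P.le).toEquiv

theorem index_K : P.K.index = Nat.card P.E := by
  have h := P.K.card_mul_index
  rw [P.card_A, P.card_K] at h
  exact Nat.eq_of_mul_eq_mul_left Nat.card_pos h

theorem two_le_E : 2 ≤ Nat.card P.E := by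
  have h := two_point_ne_bot P.isZ P.hab
  have := (Subgroup.nontrivial_iff_ne_bot _).mpr h
  exact Finite.one_lt_card (α := P.E)

theorem K_ne_bot : P.K ≠ ⊥ := fun e => by
  have h := P.card_K
  rw [e, Subgroup.card_bot] at h
  have := P.two_le
  omega

theorem K_lt_top : P.K < ⊤ := lt_top_iff_ne_top.mpr fun e => by
  have h := P.index_K
  rw [e, Subgroup.index_top] at h
  have := P.two_le_E
  omega

theorem card_G : Nat.card G = (Nat.card P.H + 1) * Nat.card P.H * Nat.card P.E := by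
  rw [card_group P.isZ P.hab, ← P.card, Nat.add_sub_cancel]

/-- At most twice the order of a two-point stabiliser forces a prime power. -/
theorem isPrimePow_of_le (hle : Nat.card P.H - 1 ≤ 2 * Nat.card P.E) : IsPrimePow (Nat.card P.H) := by
  classical
  have : Fintype P.A := Fintype.ofFinite _
  by_contra hnp
  have hnil := CfsgLib.CharTheory.nilpotent_of_centralizer_kernel P.K P.K_lt_top.ne P.centralizer_le
  obtain ⟨p, q, hp, hq, hpq, hpd, hqd⟩ : ∃ p q : ℕ, p.Prime ∧ q.Prime ∧ p ≠ q ∧ p ∣ Nat.card P.K ∧ q ∣ Nat.card P.K := by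
    rw [← P.card_K] at hnp
    have h2 : 2 ≤ Nat.card P.K := P.card_K ▸ P.two_le
    obtain ⟨p, hp, hpd⟩ := Nat.exists_prime_and_dvd (n := Nat.card P.K) (by omega)
    by_contra hcon
    push Not at hcon
    refine hnp ((isPrimePow_iff_unique_prime_dvd (n := Nat.card P.K)).mpr ⟨p, ⟨hp, hpd⟩, fun d hd => ?_⟩)
    by_contra hne
    exact hcon p d hp hd.1 (fun e => hne e.symm) hpd hd.2
  haveI := Fact.mk hp
  haveI := Fact.mk hq
  obtain ⟨x, hx⟩ := exists_prime_orderOf_dvd_card' (G := P.K) p hpd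
  obtain ⟨y, hy⟩ := exists_prime_orderOf_dvd_card' (G := P.K) q hqd
  have hcop : (orderOf x).Coprime (orderOf y) := by rw [hx, hy]; exact (Nat.coprime_primes hp hq).mpr hpq
  have hxy : Commute x y := CfsgLib.commute_of_nilpotent x y hcop
  have hxy' : orderOf (x * y) = p * q := by rw [hxy.orderOf_mul_eq_mul_orderOf_of_coprime hcop, hx, hy]
  let cl : P.K → Finset P.A := fun u => Finset.univ.filter fun z => IsConj (u : P.A) z
  have hord : ∀ u z, z ∈ cl u → orderOf z = orderOf u := by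
    intro u z hz
    obtain ⟨c, hc⟩ := isConj_iff.mp (Finset.mem_filter.mp hz).2
    rw [← hc, ← Subgroup.orderOf_coe u]
    exact MulEquiv.orderOf_eq (MulAut.conj c) (u : P.A)
  have hsize : ∀ u : P.K, u ≠ 1 → Nat.card P.E ≤ (cl u).card := by
    intro u hu
    have h1 := CfsgLib.CharTheory.card_isConj_mul_card_centralizer (G := P.A) (u : P.A)
    have h2 : Nat.card (Subgroup.centralizer ({(u : P.A)} : Set P.A)) ≤ Nat.card P.H :=
      P.card_K ▸ Subgroup.card_le_of_le (P.centralizer_le _ u.2 fun e => hu (Subtype.ext e))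
    rw [Nat.card_eq_fintype_card, Fintype.card_subtype, P.card_A] at h1
    have h3 : Nat.card P.H * Nat.card P.E ≤ (cl u).card * Nat.card P.H := h1 ▸ Nat.mul_le_mul_left _ h2
    rw [mul_comm (cl u).card] at h3
    exact Nat.le_of_mul_le_mul_left h3 Nat.card_pos
  have hd : ∀ u v : P.K, orderOf u ≠ orderOf v → Disjoint (cl u) (cl v) := fun u v hne =>
    Finset.disjoint_left.mpr fun z h1 h2 => hne ((hord u z h1).symm.trans (hord v z h2))
  have hp2 := hp.two_le
  have hq2 := hq.two_le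
  have hne1 : ∀ u : P.K, 2 ≤ orderOf u → u ≠ 1 := fun u hu e => by simp [e] at hu
  have hpq1 : p ≠ p * q := by nlinarith
  have hpq2 : q ≠ p * q := by nlinarith
  have hU : ((cl x ∪ cl y) ∪ cl (x * y)).card ≤
      (((Finset.univ : Finset P.A).filter fun z => z ∈ P.K).erase 1).card := by
    refine Finset.card_le_card fun z hz => ?_
    obtain ⟨u, hu, hzu⟩ : ∃ u : P.K, 2 ≤ orderOf u ∧ z ∈ cl u := by
      rcases Finset.mem_union.mp hz with hz | hz
      · rcases Finset.mem_union.mp hz with hz | hz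
        · exact ⟨x, by omega, hz⟩
        · exact ⟨y, by omega, hz⟩
      · exact ⟨x * y, by rw [hxy']; nlinarith, hz⟩
    refine Finset.mem_erase.mpr ⟨fun e => ?_, Finset.mem_filter.mpr ⟨Finset.mem_univ _, ?_⟩⟩
    · have := hord u z hzu
      rw [e, orderOf_one] at this
      omega
    · obtain ⟨c, hc⟩ := isConj_iff.mp (Finset.mem_filter.mp hzu).2
      exact hc ▸ (P.K_normal).conj_mem _ u.2 c
  have hKc : (((Finset.univ : Finset P.A).filter fun z => z ∈ P.K).erase 1).card = Nat.card P.H - 1 := by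
    rw [Finset.card_erase_of_mem (by simp [P.K.one_mem]), ← P.card_K, Nat.card_eq_fintype_card,
      Fintype.card_subtype]
  rw [hKc, Finset.card_union_of_disjoint (Finset.disjoint_union_left.mpr
      ⟨hd _ _ (by rw [hx, hxy']; exact hpq1), hd _ _ (by rw [hy, hxy']; exact hpq2)⟩),
    Finset.card_union_of_disjoint (hd _ _ (by rw [hx, hy]; exact hpq))] at hU
  have h1 := hsize x (hne1 x (by omega))
  have h2 := hsize y (hne1 y (by omega))
  have h3 := hsize (x * y) (hne1 _ (by rw [hxy']; nlinarith))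
  have := P.two_le_E
  omega

end Datum

end CfsgLib.ZassenhausDegree
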