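/-
Zassenhaus groups whose two-point stabilisers have even order: the degree bound.
-/
import Cfsg.Agent.Lib.ZassenhausDegree.Basic
import Cfsg.Agent.Lib.CharTheory.Schur
import Cfsg.Agent.Lib.CharTheory.More

set_option autoImplicit false
set_option linter.unusedSectionVars false
set_option linter.style.haveILetI false

namespace CfsgLib.ZassenhausDegree

open MulAction Cfsg CfsgLib.CharTheory CfsgLib.Zassenhaus CfsgLib.ZassenhausOdd
open scoped ComplexConjugate

universe u v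

variable {G : Type u} {Ω : Type v} [Group G] [Fintype G] [MulAction G Ω] [Fintype Ω]

theorem trace_idem {V : Type*} [AddCommGroup V] [Module ℂ V] [FiniteDimensional ℂ V]
    (f : V →ₗ[ℂ] V) (h : f * f = f) : ∃ n : ℕ, LinearMap.trace ℂ V f = (n : ℂ) :=
  ⟨_, ((LinearMap.isProj_range_iff_isIdempotentElem f).2 h).trace⟩

/-- A character value at an involution normalising `U` with `z * U` in its class is at most the fixed dimension. -/
theorem involution_value {χ : G → ℂ} (hχ : IsCharacter G χ) (U : Subgroup G) [Fintype U] {z : G}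
    (hz : z * z = 1) (hn : ∀ u ∈ U, z * u * z⁻¹ ∈ U) (hc : ∀ u ∈ U, χ (z * u) = χ z) :
    ∃ p q : ℕ, ∑ u : U, χ u = (Nat.card U : ℂ) * ((p : ℂ) + q) ∧ χ z = (p : ℂ) - q := by
  obtain ⟨n, ρ, rfl⟩ := hχ
  set N : ℂ := (Nat.card U : ℂ) with hN
  have hN0 : N ≠ 0 := Nat.cast_ne_zero.mpr Nat.card_pos.ne'
  set S : (Fin n → ℂ) →ₗ[ℂ] (Fin n → ℂ) := ∑ u : U, ρ u with hS
  have hSS : S * S = N • S := by
    rw [hS, Finset.sum_mul]
    have e : ∀ u : U, ρ u * ∑ v : U, ρ v = ∑ v : U, ρ v := fun u => by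
      rw [Finset.mul_sum]
      exact Fintype.sum_equiv (Equiv.mulLeft u) _ _ fun v => by
        rw [← map_mul, Equiv.coe_mulLeft, Subgroup.coe_mul]
    simp only [e]
    rw [Finset.sum_const, Finset.card_univ, hN, Nat.card_eq_fintype_card, ← Nat.cast_smul_eq_nsmul ℂ]
  have hzS : ρ z * S = S * ρ z := by
    rw [hS, Finset.sum_mul, Finset.mul_sum]
    let φ : U ≃ U :=
      { toFun := fun u => ⟨z * u * z⁻¹, hn u u.2⟩
        invFun := fun u => ⟨z * u * z⁻¹, hn u u.2⟩
        left_inv := fun u => Subtype.ext (by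
          show z * (z * u * z⁻¹) * z⁻¹ = u
          rw [inv_eq_of_mul_eq_one_right hz, show z * (z * (u : G) * z) * z = z * z * u * (z * z) by group, hz,
            one_mul, mul_one])
        right_inv := fun u => Subtype.ext (by
          show z * (z * u * z⁻¹) * z⁻¹ = u
          rw [inv_eq_of_mul_eq_one_right hz, show z * (z * (u : G) * z) * z = z * z * u * (z * z) by group, hz,
            one_mul, mul_one]) }
    refine Fintype.sum_equiv φ _ _ fun u => ?_
    rw [← map_mul, ← map_mul]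
    congr 1
    show z * (u : G) = z * u * z⁻¹ * z
    rw [inv_mul_cancel_right]
  set P : (Fin n → ℂ) →ₗ[ℂ] (Fin n → ℂ) := N⁻¹ • S with hP
  have hPP : P * P = P := by
    rw [hP, smul_mul_smul_comm, hSS, smul_smul, mul_assoc, inv_mul_cancel₀ hN0, mul_one]
  set Z := ρ z with hZdef
  have hzz : Z * Z = 1 := by rw [hZdef, ← map_mul, hz, map_one]
  have hZP : Z * P = P * Z := by rw [hP, mul_smul_comm, smul_mul_assoc, hzS]
  have h1 : (Z * P) * P = Z * P := by rw [mul_assoc, hPP]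
  have h2 : P * (Z * P) = Z * P := by rw [← mul_assoc, ← hZP, mul_assoc, hPP]
  have h3 : (Z * P) * (Z * P) = P := by rw [mul_assoc, h2, ← mul_assoc, hzz, one_mul]
  obtain ⟨p, hp⟩ := trace_idem ((1 / 2 : ℂ) • (P + Z * P)) (by
    rw [smul_mul_smul_comm, add_mul, mul_add, mul_add, hPP, h1, h2, h3]
    module)
  obtain ⟨q, hq⟩ := trace_idem ((1 / 2 : ℂ) • (P - Z * P)) (by
    rw [smul_mul_smul_comm, sub_mul, mul_sub, mul_sub, hPP, h1, h2, h3]
    module)
  have htP : LinearMap.trace ℂ _ P = N⁻¹ * ∑ u : U, ρ.character u := by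
    rw [hP, map_smul, hS, map_sum, smul_eq_mul]
    rfl
  have htZP : LinearMap.trace ℂ _ (Z * P) = ρ.character z := by
    rw [hP, mul_smul_comm, map_smul, hS, Finset.mul_sum, map_sum, smul_eq_mul]
    have e : ∀ u : U, LinearMap.trace ℂ _ (Z * ρ u) = ρ.character z := fun u => by
      rw [hZdef, ← map_mul]
      exact hc u u.2
    rw [Finset.sum_congr rfl fun u _ => e u, Finset.sum_const, Finset.card_univ, nsmul_eq_mul,
      ← Nat.card_eq_fintype_card, ← hN, ← mul_assoc, inv_mul_cancel₀ hN0, one_mul]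
  rw [map_smul, map_add, htP, htZP, smul_eq_mul] at hp
  rw [map_smul, map_sub, htP, htZP, smul_eq_mul] at hq
  refine ⟨p, q, ?_, by linear_combination hp - hq⟩
  have e : N * (N⁻¹ * ∑ u : U, ρ.character u) = N * ((p : ℂ) + q) := by
    linear_combination N * hp + N * hq
  rwa [← mul_assoc, mul_inv_cancel₀ hN0, one_mul] at e

namespace Datum

variable (P : Datum G Ω)

theorem eq_one_of_cent_H {g : G} (hg : g ∈ P.E) (hc : ∀ u ∈ P.H, g * u = u * g) : g = 1 := by
  haveI := P.isZ.1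
  obtain ⟨ha, hb⟩ := P.mem_E.mp hg
  refine eq_of_smul_eq_smul (α := Ω) fun c => ?_
  rw [one_smul]
  by_cases hca : c = P.a
  · rw [hca, ha]
  obtain ⟨u, hu, rfl⟩ := P.exists_move hca
  rw [← mul_smul, hc u hu, mul_smul, hb]

theorem invert_of_invol {z : G} (hz : z ∈ P.E) (hzz : z * z = 1) (hz1 : z ≠ 1) :
    ∀ u ∈ P.H, z * u * z⁻¹ = u⁻¹ := by
  classical
  let φ : MulAut P.K := MulAut.conjNormal (⟨z, (Subgroup.mem_inf.mp hz).1⟩ : P.A)
  have hv : ∀ k : P.K, (((φ k : P.K) : P.A) : G) = z * ((k : P.A) : G) * z⁻¹ := fun k => by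
    simp [φ, MulAut.conjNormal_apply]
  have hfpf : MonoidHom.FixedPointFree (φ : P.K →* P.K) := by
    intro k hk
    by_contra h1
    have e : z * ((k : P.A) : G) * z⁻¹ = ((k : P.A) : G) := by rw [← hv]; exact congrArg (fun t : P.K => ((t : P.A) : G)) hk
    rw [mul_inv_eq_iff_eq_mul] at e
    exact hz1 (P.disjoint (P.cent (Subgroup.mem_subgroupOf.mp k.2)
      (fun e1 => h1 (Subtype.ext (Subtype.ext e1))) e) hz)
  have hinv : Function.Involutive (φ : P.K →* P.K) := fun k => Subtype.ext (Subtype.ext (by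
    show (((φ (φ k) : P.K) : P.A) : G) = _
    rw [hv, hv, inv_eq_of_mul_eq_one_right hzz,
      show z * (z * ((k : P.A) : G) * z) * z = z * z * ((k : P.A) : G) * (z * z) by group, hzz, one_mul, mul_one]))
  intro u hu
  have h := hfpf.coe_eq_inv_of_involutive hinv
  have := congrFun h ⟨⟨u, P.le hu⟩, Subgroup.mem_subgroupOf.mpr hu⟩
  rw [← hv ⟨⟨u, P.le hu⟩, Subgroup.mem_subgroupOf.mpr hu⟩]
  exact congrArg (fun t : P.K => ((t : P.A) : G)) this

theorem invol_unique {z z' : G} (hz : z ∈ P.E) (hzz : z * z = 1) (hz1 : z ≠ 1)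
    (hz' : z' ∈ P.E) (hzz' : z' * z' = 1) (hz1' : z' ≠ 1) : z' = z := by
  have h := P.eq_one_of_cent_H (mul_mem hz' hz) fun u hu => ?_
  · rw [eq_inv_of_mul_eq_one_left h, inv_eq_of_mul_eq_one_right hzz]
  · have h1 := P.invert_of_invol hz hzz hz1 u hu
    have h2 := P.invert_of_invol hz' hzz' hz1' u⁻¹ (inv_mem hu)
    rw [inv_inv] at h2
    calc z' * z * u = z' * (z * u * z⁻¹) * z'⁻¹ * (z' * z) := by group
      _ = u * (z' * z) := by rw [h1, h2]

set_option maxHeartbeats 1200000 in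
/-- An even two-point stabiliser is at least half the degree minus one. -/
theorem le_of_even (hev : Even (Nat.card P.E)) : Nat.card P.H - 1 ≤ 2 * Nat.card P.E := by
  classical
  obtain ⟨z', hz'⟩ := exists_prime_orderOf_dvd_card' (G := P.E) 2 hev.two_dvd
  set z : G := (z' : G) with hzdef
  have hzo : orderOf z = 2 := by rw [hzdef, Subgroup.orderOf_coe]; exact hz'
  have hzE : z ∈ P.E := z'.2
  obtain ⟨hzz, hz1⟩ := (orderOf_eq_prime_iff (p := 2)).mp hzo
  rw [pow_two] at hzz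
  obtain ⟨hza, hzb⟩ := P.mem_E.mp hzE
  have hinv := P.invert_of_invol hzE hzz hz1
  have hab : ∀ u ∈ P.H, ∀ v ∈ P.H, u * v = v * u := fun u hu v hv => by
    have e := hinv _ (mul_mem hu hv)
    rw [show z * (u * v) * z⁻¹ = z * u * z⁻¹ * (z * v * z⁻¹) by group, hinv u hu, hinv v hv, mul_inv_rev] at e
    calc u * v = (v⁻¹ * u⁻¹)⁻¹ := by group
      _ = (u⁻¹ * v⁻¹)⁻¹ := by rw [← e]
      _ = v * u := by group
  have hsq : ∀ u ∈ P.H, u * u = 1 → u = 1 := fun u hu e => by
    by_contra hu1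
    exact hz1 (P.disjoint (P.cent hu hu1 (by
      have := hinv u hu
      rw [inv_eq_of_mul_eq_one_right e, mul_inv_eq_iff_eq_mul] at this
      exact this)) hzE)
  have hodd : Odd (Nat.card P.H) := by
    rw [← Nat.not_even_iff_odd]
    intro he
    obtain ⟨u, hu⟩ := exists_prime_orderOf_dvd_card' (G := P.H) 2 he.two_dvd
    obtain ⟨e1, e2⟩ := (orderOf_eq_prime_iff (p := 2)).mp hu
    rw [pow_two] at e1
    exact e2 (Subtype.ext (hsq u u.2 (congrArg Subtype.val e1)))
  have hroot : ∀ u ∈ P.H, ∃ v ∈ P.H, v * v = u := by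
    intro u hu
    have hinj : Function.Injective fun v : P.H => v * v := fun v w e => by
      have e' : (v : G) * v = (w : G) * w := congrArg Subtype.val e
      refine Subtype.ext (inv_mul_eq_one.mp (hsq ((w : G)⁻¹ * v) (mul_mem (inv_mem w.2) v.2) ?_)).symm
      calc (w : G)⁻¹ * v * ((w : G)⁻¹ * v) = (w : G)⁻¹ * (v * (w : G)⁻¹) * v := by group
        _ = (w : G)⁻¹ * ((w : G)⁻¹ * v) * v := by rw [hab _ v.2 _ (inv_mem w.2)]
        _ = ((w : G) * w)⁻¹ * (v * v) := by group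
        _ = 1 := by rw [e', inv_mul_cancel]
    obtain ⟨v, hv⟩ := Finite.surjective_of_injective hinj ⟨u, hu⟩
    exact ⟨v, v.2, congrArg Subtype.val hv⟩
  -- the class of `z` meets the stabiliser in `z * H`
  have hcoset : ∀ u ∈ P.H, IsConj z (z * u) := by
    intro u hu
    obtain ⟨v, hv, rfl⟩ := hroot u hu
    refine isConj_iff.mpr ⟨v⁻¹, ?_⟩
    have e := hinv v hv
    rw [mul_inv_eq_iff_eq_mul] at e
    calc v⁻¹ * z * v⁻¹⁻¹ = v⁻¹ * z * v := by group
      _ = z * v * v := by rw [e]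
      _ = z * (v * v) := by group
  have hclass : ∀ x, IsConj z x → x ∈ P.A → z⁻¹ * x ∈ P.H := by
    intro x hx hxA
    obtain ⟨g, rfl⟩ := isConj_iff.mp hx
    have hx1 : g * z * g⁻¹ ≠ 1 := fun e => hz1 (by rwa [mul_inv_eq_one, mul_eq_left] at e)
    obtain ⟨c, hca, hc⟩ : ∃ c, c ≠ P.a ∧ (g * z * g⁻¹) • c = c := by
      by_cases hga : g • P.a = P.a
      · exact ⟨g • P.b, fun e => P.hab.symm (MulAction.injective g (e.trans hga.symm)),
          by rw [mul_smul, mul_smul, inv_smul_smul, hzb]⟩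
      · exact ⟨g • P.a, hga, by rw [mul_smul, mul_smul, inv_smul_smul, hza]⟩
    obtain ⟨v, hv, hvb⟩ := P.exists_move hca
    have hxa := P.mem_A.mp hxA
    have hva := P.mem_A.mp (P.le hv)
    have e1 : v⁻¹ * (g * z * g⁻¹) * v = z := P.invol_unique hzE hzz hz1
      (P.mem_E.mpr ⟨by rw [mul_smul, mul_smul, hva, hxa, inv_smul_eq_iff, hva],
        by rw [mul_smul, mul_smul, hvb, hc, ← hvb, inv_smul_smul]⟩)
      (by rw [show v⁻¹ * (g * z * g⁻¹) * v * (v⁻¹ * (g * z * g⁻¹) * v) = v⁻¹ * g * (z * z) * g⁻¹ * v by group,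
        hzz]; group)
      (fun e => hx1 (by
        calc g * z * g⁻¹ = v * (v⁻¹ * (g * z * g⁻¹) * v) * v⁻¹ := by group
          _ = 1 := by rw [e]; group))
    have e2 : g * z * g⁻¹ = v * z * v⁻¹ := by
      calc g * z * g⁻¹ = v * (v⁻¹ * (g * z * g⁻¹) * v) * v⁻¹ := by group
        _ = v * z * v⁻¹ := by rw [e1]
    rw [e2, inv_eq_of_mul_eq_one_right hzz, show z * (v * z * v⁻¹) = z * v * z * v⁻¹ by group]
    have := hinv v hv
    rw [inv_eq_of_mul_eq_one_right hzz] at this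
    rw [this]
    exact mul_mem (inv_mem hv) (inv_mem hv)
  -- the centraliser of `z`
  have hE : ∀ g ∈ P.E, g * z = z * g := fun g hg => by
    have e := P.invol_unique hzE hzz hz1 (mul_mem (mul_mem hg hzE) (inv_mem hg))
      (by rw [show g * z * g⁻¹ * (g * z * g⁻¹) = g * (z * z) * g⁻¹ by group, hzz]; group)
      (fun e => hz1 (by rwa [mul_inv_eq_one, mul_eq_left] at e))
    exact mul_inv_eq_iff_eq_mul.mp e
  have hC : Nat.card (Subgroup.centralizer ({z} : Set G)) = 2 * Nat.card P.E := by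
    obtain ⟨w, hwa, hwb⟩ := exists_smul_pair P.isZ P.hab (Ne.symm P.hab)
    have hwi : w⁻¹ • P.b = P.a ∧ w⁻¹ • P.a = P.b :=
      ⟨inv_smul_eq_iff.mpr hwa.symm, inv_smul_eq_iff.mpr hwb.symm⟩
    have hwz : w * z = z * w := by
      have e := P.invol_unique hzE hzz hz1 (z' := w * z * w⁻¹)
        (P.mem_E.mpr ⟨by rw [mul_smul, mul_smul, hwi.2, hzb, hwb],
          by rw [mul_smul, mul_smul, hwi.1, hza, hwa]⟩)
        (by rw [show w * z * w⁻¹ * (w * z * w⁻¹) = w * (z * z) * w⁻¹ by group, hzz]; group)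
        (fun e => hz1 (by rwa [mul_inv_eq_one, mul_eq_left] at e))
      exact mul_inv_eq_iff_eq_mul.mp e
    have hwE : w ∉ P.E := fun h => P.hab ((P.mem_E.mp h).1.symm.trans hwa)
    have e : Nat.card (Subgroup.centralizer ({z} : Set G)) = Nat.card (Bool × P.E) := by
      refine (Nat.card_eq_of_bijective (fun q : Bool × P.E =>
        (⟨(if q.1 then w else 1) * q.2, Subgroup.mem_centralizer_singleton_iff.mpr (by
          cases q.1
          · simpa using hE q.2 q.2.2
          · simp only [if_true]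
            rw [mul_assoc, hE q.2 q.2.2, ← mul_assoc, hwz, mul_assoc])⟩ :
          Subgroup.centralizer ({z} : Set G))) ⟨?_, ?_⟩).symm
      · rintro ⟨s, d⟩ ⟨t, d'⟩ e
        have e' := congrArg Subtype.val e
        simp only at e'
        have key : ∀ d d' : P.E, w * (d : G) ≠ (d' : G) := fun d d' e1 => hwE (by
          rw [eq_mul_inv_of_mul_eq e1]; exact mul_mem d'.2 (inv_mem d.2))
        cases s <;> cases t <;> simp only [if_true, Bool.false_eq_true, if_false, one_mul] at e'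
        · rw [Subtype.ext e']
        · exact absurd e'.symm (key d' d)
        · exact absurd e' (key d d')
        · rw [Subtype.ext (mul_left_cancel e')]
      · rintro ⟨g, hg⟩
        rw [Subgroup.mem_centralizer_singleton_iff] at hg
        rcases pair_of_mem_normalizer P.isZ P.hab ⟨z, hzE, hz1, by rw [hg, mul_inv_cancel_right]; exact hzE⟩
          with ⟨h1, h2⟩ | ⟨h1, h2⟩
        · exact ⟨(false, ⟨g, P.mem_E.mpr ⟨h1, h2⟩⟩), Subtype.ext (by simp)⟩
        · exact ⟨(true, ⟨w⁻¹ * g, P.mem_E.mpr ⟨by rw [mul_smul, h1, hwi.1],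
            by rw [mul_smul, h2, hwi.2]⟩⟩), Subtype.ext (by simp)⟩
    rw [e, Nat.card_prod, Nat.card_eq_fintype_card, Fintype.card_bool]
  -- character data
  set h := Nat.card P.H with hh
  set e := Nat.card P.E with he
  letI : Fintype P.H := Fintype.ofFinite _
  have hh0 : (h : ℂ) ≠ 0 := Nat.cast_ne_zero.mpr Nat.card_pos.ne'
  have hdata : ∀ χ : IrrCharacter G, ∃ p q : ℕ, ∑ u : P.H, (χ : G → ℂ) u = (h : ℂ) * ((p : ℂ) + q) ∧
      (χ : G → ℂ) z = (p : ℂ) - q := fun χ =>
    involution_value (isCharacter_of_irr χ.2) P.H hzz (fun u hu => by rw [hinv u hu]; exact inv_mem hu)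
      (fun u hu => (isClassFunction_iff_isConj.mp (isClassFunction_irr χ.2) _ _ (hcoset u hu)).symm)
  choose p q hm hz' using hdata
  choose d hd0 hd using fun χ : IrrCharacter G => irr_degree_pos χ.2
  set m : IrrCharacter G → ℕ := fun χ => p χ + q χ with hmdef
  set t : IrrCharacter G → ℤ := fun χ => (p χ : ℤ) - q χ with htdef
  have htm : ∀ χ : IrrCharacter G, t χ ^ 2 ≤ (m χ : ℤ) ^ 2 := fun χ => by
    simp only [hmdef, htdef]; push_cast; nlinarith [mul_nonneg (Int.natCast_nonneg (p χ)) (Int.natCast_nonneg (q χ))]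
  have htz : ∀ χ : IrrCharacter G, (χ : G → ℂ) z = (t χ : ℂ) := fun χ => by rw [hz']; simp [htdef]
  have hmu : ∀ χ : IrrCharacter G, ∑ u : P.H, (χ : G → ℂ) u = (h : ℂ) * (m χ : ℂ) := fun χ => by rw [hm]; simp [hmdef]
  have hG : Nat.card G = (h + 1) * h * e := P.card_G
  have hsum2 : ∑ χ, t χ ^ 2 = 2 * (e : ℤ) := by
    have := sum_irr_mul_conj (G := G) z z
    simp only [IsConj.refl z, if_true, htz, map_intCast] at this
    rw [hC] at this
    have e1 : ((∑ χ, t χ ^ 2 : ℤ) : ℂ) = ((2 * (e : ℤ) : ℤ) : ℂ) := by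
      push_cast
      simp only [pow_two]
      rw [this]; push_cast; ring
    exact_mod_cast e1
  have hsum1 : ∑ χ, (m χ : ℤ) * d χ = e * (h + 1) := by
    have e1 : ∑ u : P.H, ∑ χ : IrrCharacter G, (χ : G → ℂ) u * (χ : G → ℂ) 1 = (Nat.card G : ℂ) := by
      rw [Finset.sum_eq_single (1 : P.H) (fun u _ hu => by
        rw [sum_irr_apply_mul_degree, if_neg (fun e => hu (Subtype.ext e) : ¬ (u : G) = 1)]) (fun hn => absurd (Finset.mem_univ _) hn),
        sum_irr_apply_mul_degree, Subgroup.coe_one, if_pos rfl]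
    rw [Finset.sum_comm] at e1
    simp only [← Finset.sum_mul, hmu, hd, hG, mul_assoc, ← Finset.mul_sum] at e1
    push_cast at e1
    have e2 : ∑ χ : IrrCharacter G, (m χ : ℂ) * (d χ : ℂ) = (e : ℂ) * ((h : ℂ) + 1) :=
      mul_left_cancel₀ hh0 (by rw [e1]; ring)
    exact_mod_cast e2
  -- products of two conjugates of `z` in the kernel
  set Cl := (Finset.univ : Finset G).filter fun x => IsConj z x with hCl
  have hN : Cl.card * (2 * e) = (h + 1) * h * e := by
    have := card_isConj_mul_card_centralizer (G := G) z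
    rwa [hC, hG, Nat.card_eq_fintype_card, Fintype.card_subtype] at this
  have hN2 : 2 * Cl.card = (h + 1) * h := by
    have he0 : 0 < e := Nat.card_pos
    exact Nat.eq_of_mul_eq_mul_right he0 (by rw [← hN]; ring)
  have hcnt : ∀ u ∈ P.H, u ≠ 1 → (Cl.filter fun x => x * u ∈ Cl).card = h := by
    intro u hu hu1
    have : Cl.filter (fun x => x * u ∈ Cl) = (Finset.univ : Finset P.H).image fun v : P.H => z * v := by
      ext x
      simp only [hCl, Finset.mem_filter, Finset.mem_univ, true_and, Finset.mem_image]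
      constructor
      · rintro ⟨h1, h2⟩
        refine ⟨⟨z⁻¹ * x, hclass x h1 ?_⟩, mul_inv_cancel_left z x⟩
        have sq : ∀ y, IsConj z y → y * y = 1 := fun y hy => by
          obtain ⟨g, rfl⟩ := isConj_iff.mp hy
          rw [show g * z * g⁻¹ * (g * z * g⁻¹) = g * (z * z) * g⁻¹ by group, hzz]; group
        have e1 : x * u * x⁻¹ = u⁻¹ := by
          rw [inv_eq_of_mul_eq_one_right (sq x h1)]
          exact eq_inv_of_mul_eq_one_left (by rw [mul_assoc (x * u), sq _ h2])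
        exact P.fix_of_conj hu (by rw [e1]; exact inv_mem hu) hu1
      · rintro ⟨v, rfl⟩
        exact ⟨hcoset v v.2, by rw [mul_assoc]; exact hcoset _ (mul_mem v.2 hu)⟩
    rw [this, Finset.card_image_of_injective _ fun v w e => Subtype.ext (mul_left_cancel e),
      Finset.card_univ, hh, Nat.card_eq_fintype_card]
  have hcnt1 : (Cl.filter fun x => x * (1 : G) ∈ Cl).card = Cl.card := by
    simp
  have hexp : ∀ u : G, (Nat.card G : ℂ) * ((Cl.filter fun x => x * u ∈ Cl).card : ℂ) =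
      ∑ χ : IrrCharacter G, (Cl.card : ℂ) * Cl.card * ((t χ : ℂ) * t χ) / (d χ : ℂ) * (χ : G → ℂ) u⁻¹ := by
    intro u
    have hsq : ∀ y ∈ Cl, y * y = 1 := fun y hy => by
      obtain ⟨g, rfl⟩ := isConj_iff.mp (Finset.mem_filter.mp hy).2
      rw [show g * z * g⁻¹ * (g * z * g⁻¹) = g * (z * z) * g⁻¹ by group, hzz]; group
    have e0 : ((Cl.filter fun x => x * u ∈ Cl).card : ℂ) = ∑ x ∈ Cl, ∑ y ∈ Cl, if x * y = u then (1 : ℂ) else 0 := by
      rw [← Finset.sum_boole]
      refine Finset.sum_congr rfl fun x hx => ?_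
      have : ∀ y, (x * y = u) ↔ y = x * u := fun y =>
        ⟨fun e => by rw [← e, ← mul_assoc, hsq x hx, one_mul], fun e => by rw [e, ← mul_assoc, hsq x hx, one_mul]⟩
      simp only [this, Finset.sum_ite_eq']
    rw [e0]
    simp only [Finset.mul_sum]
    have e1 : ∀ x w : G, (Nat.card G : ℂ) * (if x * w = u then (1 : ℂ) else 0) =
        ∑ χ : IrrCharacter G, (χ : G → ℂ) (x * w * u⁻¹) * (χ : G → ℂ) 1 := fun x w => by
      rw [sum_irr_apply_mul_degree, mul_ite, mul_one, mul_zero]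
      exact if_congr mul_inv_eq_one.symm rfl rfl
    simp only [e1]
    rw [Finset.sum_congr rfl fun x _ => Finset.sum_comm, Finset.sum_comm]
    refine Finset.sum_congr rfl fun χ _ => ?_
    simp only [← Finset.sum_mul]
    rw [hCl, sum_class_class_char χ.2 z z u⁻¹, Nat.card_eq_fintype_card, Fintype.card_subtype, htz, hd]
    have : (d χ : ℂ) ≠ 0 := Nat.cast_ne_zero.mpr (hd0 χ).ne'
    field_simp
  have hmain : (Cl.card : ℝ) * Cl.card * h * ∑ χ, (t χ : ℝ) ^ 2 * (m χ : ℝ) / (d χ : ℝ) =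
      ((h + 1 : ℝ) * h * e) * ((Cl.card : ℝ) + ((h : ℝ) - 1) * h) := by
    have e2 : ∀ χ : IrrCharacter G, ∑ u : P.H, (χ : G → ℂ) (u : G)⁻¹ = (h : ℂ) * m χ := fun χ => by
      rw [← hmu]
      exact Fintype.sum_equiv (Equiv.inv P.H) _ _ fun u => by simp
    have e1 : ∑ u : P.H, (Nat.card G : ℂ) * ((Cl.filter fun x => x * (u : G) ∈ Cl).card : ℂ) =
        (Cl.card : ℂ) * Cl.card * h * ∑ χ, (t χ : ℂ) ^ 2 * (m χ : ℂ) / (d χ : ℂ) := by
      simp only [hexp]
      rw [Finset.sum_comm, Finset.mul_sum]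
      refine Finset.sum_congr rfl fun χ _ => ?_
      rw [← Finset.mul_sum, e2]
      ring
    rw [← Finset.mul_sum, ← Finset.add_sum_erase _ _ (Finset.mem_univ (1 : P.H)),
      Finset.sum_congr rfl fun (u : P.H) hu => by
        rw [hcnt u u.2 fun e => (Finset.mem_erase.mp hu).1 (Subtype.ext e)],
      Subgroup.coe_one, hcnt1, Finset.sum_const, Finset.card_erase_of_mem (Finset.mem_univ _), Finset.card_univ,
      ← Nat.card_eq_fintype_card, ← hh, nsmul_eq_mul, Nat.cast_sub Nat.card_pos, Nat.cast_one, hG] at e1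
    push_cast at e1
    apply Complex.ofReal_injective
    push_cast
    exact e1.symm
  -- the final estimate
  by_contra hlt
  have h2 := P.two_le
  have he2 := P.two_le_E
  rw [← hh] at h2
  rw [← he] at he2
  have hh3 : 2 * e + 3 ≤ h := by obtain ⟨k, hk⟩ := hodd; omega
  set one : IrrCharacter G := ⟨fun _ => 1, isIrrCharacter_one⟩ with hone
  have hm1 : m one = 1 := by
    have := hmu one
    simp only [hone, Finset.sum_const, Finset.card_univ, nsmul_eq_mul, mul_one, ← Nat.card_eq_fintype_card, ← hh] at this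
    have e1 : (m one : ℂ) = 1 := mul_left_cancel₀ hh0 (by rw [mul_one]; exact this.symm)
    exact_mod_cast e1
  have ht1 : t one = 1 := by
    have := htz one
    simp only [hone] at this
    exact_mod_cast this.symm
  have hd1 : d one = 1 := by
    have := hd one
    simp only [hone] at this
    exact_mod_cast this.symm
  set S := ((Finset.univ : Finset (IrrCharacter G)).erase one).filter fun χ => m χ ≠ 0 with hS
  have hrest : ∀ χ ∈ (Finset.univ : Finset (IrrCharacter G)).erase one, χ ∉ S → m χ = 0 ∧ t χ = 0 := by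
    intro χ hχ hn
    have h0 : m χ = 0 := by by_contra h; exact hn (Finset.mem_filter.mpr ⟨hχ, h⟩)
    refine ⟨h0, ?_⟩
    have := htm χ
    rw [h0] at this
    exact pow_eq_zero_iff (n := 2) two_ne_zero |>.mp (le_antisymm (by simpa using this) (sq_nonneg _))
  have hsub : S ⊆ (Finset.univ : Finset (IrrCharacter G)).erase one := Finset.filter_subset _ _
  have hb : ∑ χ ∈ S, (t χ : ℝ) ^ 2 = 2 * e - 1 := by
    have e1 : ∑ χ ∈ S, t χ ^ 2 = 2 * (e : ℤ) - 1 := by
      rw [Finset.sum_subset hsub fun χ hχ hn => by rw [(hrest χ hχ hn).2]; simp,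
        Finset.sum_erase_eq_sub (Finset.mem_univ one), hsum2, ht1, one_pow]
    exact_mod_cast e1
  have hc : ∑ χ ∈ S, (m χ : ℝ) * d χ = e * (h + 1) - 1 := by
    have e1 : ∑ χ ∈ S, (m χ : ℤ) * d χ = e * (h + 1) - 1 := by
      rw [Finset.sum_subset hsub fun χ hχ hn => by rw [(hrest χ hχ hn).1]; simp,
        Finset.sum_erase_eq_sub (Finset.mem_univ one), hsum1, hm1, hd1]; simp
    exact_mod_cast e1
  have hpos : ∀ χ ∈ S, (0 : ℝ) < (m χ : ℝ) * d χ := fun χ hχ => by
    have := Nat.pos_of_ne_zero (Finset.mem_filter.mp hχ).2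
    have := hd0 χ
    positivity
  have hcs : (∑ χ ∈ S, (t χ : ℝ) ^ 2) ^ 2 / (∑ χ ∈ S, (m χ : ℝ) * d χ) ≤
      ∑ χ ∈ S, (t χ : ℝ) ^ 2 * m χ / d χ := by
    refine (Finset.sq_sum_div_le_sum_sq_div S _ hpos).trans (Finset.sum_le_sum fun χ hχ => ?_)
    have h0 := hpos χ hχ
    have hd' : (0 : ℝ) < d χ := by exact_mod_cast hd0 χ
    have hle : (t χ : ℝ) ^ 2 ≤ (m χ : ℝ) ^ 2 := by exact_mod_cast htm χ
    rw [div_le_div_iff₀ h0 hd']
    nlinarith [mul_le_mul_of_nonneg_left hle (mul_nonneg (sq_nonneg (t χ : ℝ)) hd'.le)]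
  have hT : (1 : ℝ) + ∑ χ ∈ S, (t χ : ℝ) ^ 2 * m χ / d χ = ∑ χ, (t χ : ℝ) ^ 2 * (m χ : ℝ) / (d χ : ℝ) := by
    rw [← Finset.add_sum_erase _ _ (Finset.mem_univ one), ht1, hm1, hd1,
      Finset.sum_subset hsub fun χ hχ hn => by rw [(hrest χ hχ hn).1]; simp]
    simp
  rw [← hT] at hmain
  rw [hb, hc] at hcs
  set X := ∑ χ ∈ S, (t χ : ℝ) ^ 2 * m χ / d χ
  have hE0 : (2 : ℝ) ≤ e := by exact_mod_cast he2
  have hH0 : 2 * (e : ℝ) + 3 ≤ h := by exact_mod_cast hh3
  have hclr : 2 * (Cl.card : ℝ) = ((h : ℝ) + 1) * h := by exact_mod_cast hN2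
  have hcl : (Cl.card : ℝ) = ((h : ℝ) + 1) * h / 2 := by linarith
  rw [hcl] at hmain
  have h5 : ((h : ℝ) + 1) * h * (1 + X) = 2 * e * (3 * h - 1) := by
    have hne : ((h : ℝ) + 1) * h * h ≠ 0 := by
      have : (0 : ℝ) < h := by linarith
      positivity
    apply mul_left_cancel₀ hne
    linear_combination 4 * hmain
  have h6 : (2 * (e : ℝ) - 1) ^ 2 ≤ X * (e * (h + 1) - 1) := by
    rw [div_le_iff₀ (by nlinarith)] at hcs
    exact hcs
  have hX : 0 ≤ X := Finset.sum_nonneg fun χ hχ => by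
    have hd' : (0 : ℝ) < d χ := by exact_mod_cast hd0 χ
    positivity
  have h7 : 4 * (e : ℝ) - 4 ≤ X * (h + 1) := by nlinarith
  nlinarith [mul_le_mul_of_nonneg_left h7 (le_of_lt (show (0 : ℝ) < h by linarith))]

end Datum

end CfsgLib.ZassenhausDegree
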