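/-
Characters of the point stabiliser of a Zassenhaus group with abelian two-point stabilisers.
-/
import Cfsg.Agent.Lib.ZassenhausDegree.Basic
import Cfsg.Agent.Lib.CharTheory.FrobKernelTI

set_option autoImplicit false
set_option linter.unusedSectionVars false
set_option linter.style.haveILetI false

namespace CfsgLib.ZassenhausDegree

open MulAction Cfsg CfsgLib.CharTheory CfsgLib.Zassenhaus CfsgLib.ZassenhausOdd
open scoped ComplexConjugate

universe u v

variable {G : Type u} {Ω : Type v} [Group G] [Fintype G] [MulAction G Ω] [Fintype Ω]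

namespace Datum

variable (P : Datum G Ω) [Fintype P.A] [Fintype P.K]
variable (hcomm : ∀ x ∈ P.E, ∀ y ∈ P.E, x * y = y * x)

/-- The irreducible characters of the stabiliser trivial on the kernel. -/
noncomputable def triv : Finset (IrrCharacter P.A) := by
  classical exact Finset.univ.filter fun χ : IrrCharacter P.A => ∀ n ∈ P.K, (χ : P.A → ℂ) n = (χ : P.A → ℂ) 1

/-- The others. -/
noncomputable def nontriv : Finset (IrrCharacter P.A) := by
  classical exact Finset.univ.filter fun χ : IrrCharacter P.A => ¬ ∀ n ∈ P.K, (χ : P.A → ℂ) n = (χ : P.A → ℂ) 1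

theorem mem_triv {χ : IrrCharacter P.A} :
    χ ∈ P.triv ↔ ∀ n ∈ P.K, (χ : P.A → ℂ) n = (χ : P.A → ℂ) 1 := by
  classical simp [triv]

theorem mem_nontriv {χ : IrrCharacter P.A} :
    χ ∈ P.nontriv ↔ (χ : P.A → ℂ) ∈ FrobKernelTI.S P.K := by
  classical
  constructor
  · intro h
    have := (Finset.mem_filter.mp (show χ ∈ Finset.univ.filter fun χ : IrrCharacter P.A =>
      ¬ ∀ n ∈ P.K, (χ : P.A → ℂ) n = (χ : P.A → ℂ) 1 from by simpa [nontriv] using h)).2
    push Not at this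
    exact ⟨χ.2, this⟩
  · rintro ⟨-, n, hn, hne⟩
    simp only [nontriv, Finset.mem_filter, Finset.mem_univ, true_and]
    exact fun hall => hne (hall n hn)

theorem sum_split (F : IrrCharacter P.A → ℂ) :
    ∑ χ, F χ = ∑ χ ∈ P.triv, F χ + ∑ χ ∈ P.nontriv, F χ := by
  classical
  simp only [triv, nontriv]
  exact (Finset.sum_filter_add_sum_filter_not _ _ _).symm

theorem card_univ_irr : Fintype.card (IrrCharacter P.A) = P.triv.card + P.nontriv.card := by
  classical
  simp only [triv, nontriv]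
  rw [← Finset.card_univ]
  exact (Finset.card_filter_add_card_filter_not _).symm

include hcomm

theorem quot_comm : ∀ x y : P.A ⧸ P.K, x * y = y * x := by
  intro x y
  obtain ⟨x, rfl⟩ := QuotientGroup.mk_surjective x
  obtain ⟨y, rfl⟩ := QuotientGroup.mk_surjective y
  have key : ∀ z : P.A, ∃ d : G, ∃ hd : d ∈ P.E,
      (z : P.A ⧸ P.K) = ((⟨d, (Subgroup.mem_inf.mp hd).1⟩ : P.A) : P.A ⧸ P.K) := by
    intro z
    obtain ⟨u, hu, d, hd, e⟩ := P.decomp z.2
    refine ⟨d, hd, ?_⟩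
    rw [QuotientGroup.eq]
    refine Subgroup.mem_subgroupOf.mpr ?_
    show (z : G)⁻¹ * d ∈ P.H
    have h2 := P.conj_mem (inv_mem (Subgroup.mem_inf.mp hd).1) (inv_mem hu)
    rw [e, mul_inv_rev]
    rwa [inv_inv] at h2
  obtain ⟨d, hd, hx⟩ := key x
  obtain ⟨d', hd', hy⟩ := key y
  rw [hx, hy, ← QuotientGroup.mk_mul, ← QuotientGroup.mk_mul]
  exact congrArg _ (Subtype.ext (hcomm d hd d' hd'))

theorem triv_one {χ : IrrCharacter P.A} (h : χ ∈ P.triv) : (χ : P.A → ℂ) 1 = 1 := by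
  obtain ⟨ψ, hψ, e⟩ := exists_quotient_irr P.K χ.2 (P.mem_triv.mp h)
  rw [congrFun e 1]
  exact degree_one_of_commutative (P.quot_comm hcomm) hψ

theorem triv_apply {χ : IrrCharacter P.A} (h : χ ∈ P.triv) {n : P.A} (hn : n ∈ P.K) :
    (χ : P.A → ℂ) n = 1 := by
  rw [P.mem_triv.mp h n hn, P.triv_one hcomm h]

theorem sum_triv (x : P.A) [Decidable (x ∈ P.K)] :
    ∑ χ ∈ P.triv, (χ : P.A → ℂ) x = if x ∈ P.K then (Nat.card P.E : ℂ) else 0 := by
  classical
  letI : Fintype (P.A ⧸ P.K) := Fintype.ofFinite _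
  have h := sum_irr_apply_mul_degree (G := P.A ⧸ P.K) (x : P.A ⧸ P.K)
  simp only [QuotientGroup.eq_one_iff] at h
  rw [← P.index_K, Subgroup.index]
  rw [show ∑ χ ∈ P.triv, (χ : P.A → ℂ) x = ∑ ψ : IrrCharacter (P.A ⧸ P.K),
      (ψ : P.A ⧸ P.K → ℂ) (x : P.A ⧸ P.K) * (ψ : P.A ⧸ P.K → ℂ) 1 from ?_, h]
  rw [Finset.sum_subtype (p := fun χ : IrrCharacter P.A => ∀ n ∈ P.K, (χ : P.A → ℂ) n = (χ : P.A → ℂ) 1)
    P.triv (fun χ => P.mem_triv)]
  refine (Fintype.sum_equiv (quotientIrrEquiv P.K) _ _ fun ψ => ?_).symm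
  rw [degree_one_of_commutative (P.quot_comm hcomm) ψ.2, mul_one]
  rfl

theorem card_triv : P.triv.card = Nat.card P.E := by
  classical
  have h := P.sum_triv hcomm 1
  rw [Finset.sum_congr rfl fun χ hχ => P.triv_one hcomm hχ, Finset.sum_const, nsmul_eq_mul, mul_one,
    if_pos P.K.one_mem] at h
  exact_mod_cast h

theorem sum_inner_triv (f : P.A → ℂ) :
    ∑ χ ∈ P.triv, classInner f (χ : P.A → ℂ) = (Nat.card P.H : ℂ)⁻¹ * ∑ k : P.K, f k := by
  classical
  rw [← classInner_sum_right]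
  simp only [classInner, Finset.sum_apply]
  simp only [P.sum_triv hcomm, apply_ite (starRingEnd ℂ), Complex.conj_natCast, map_zero, mul_ite, mul_zero]
  rw [← Finset.sum_filter, Finset.sum_subtype (p := (· ∈ P.K)) _ (fun x => by simp), ← Finset.sum_mul,
    P.card_A]
  push_cast
  have h1 : (Nat.card P.E : ℂ) ≠ 0 := Nat.cast_ne_zero.mpr Nat.card_pos.ne'
  have h2 : (Nat.card P.H : ℂ) ≠ 0 := Nat.cast_ne_zero.mpr Nat.card_pos.ne'
  field_simp

/-- A class function with no constituent trivial on the kernel vanishes off the kernel. -/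
theorem vanish_of_inner {f : P.A → ℂ} (hf : IsClassFunction P.A f)
    (h : ∀ χ ∈ P.triv, classInner f (χ : P.A → ℂ) = 0) {x : P.A} (hx : x ∉ P.K) : f x = 0 := by
  rw [congrFun (eq_sum_irr hf) x, Finset.sum_apply, P.sum_split]
  rw [Finset.sum_eq_zero (s := P.triv) (fun χ hχ => by rw [Pi.smul_apply, h χ hχ, zero_smul]),
    Finset.sum_eq_zero (s := P.nontriv) (fun χ hχ => by
      rw [Pi.smul_apply, smul_eq_mul,
        FrobKernelTI.vanish P.K P.centralizer_le P.K_lt_top (P.mem_nontriv.mp hχ) hx, mul_zero]), add_zero]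

/-- The degrees of the other characters. -/
theorem exists_delta : ∃ δ : IrrCharacter P.A → ℕ, (∀ χ ∈ P.nontriv, 0 < δ χ ∧
      (χ : P.A → ℂ) 1 = (Nat.card P.E : ℂ) * (δ χ : ℂ)) ∧
    Nat.card P.H = 1 + Nat.card P.E * ∑ χ ∈ P.nontriv, δ χ ^ 2 ∧
    ∀ u : P.K, (u : P.A) ≠ 1 → ∑ χ ∈ P.nontriv, (δ χ : ℂ) * (χ : P.A → ℂ) u = -1 := by
  classical
  have hex : ∀ χ : IrrCharacter P.A, ∃ δ : ℕ, χ ∈ P.nontriv →
      0 < δ ∧ (χ : P.A → ℂ) 1 = (Nat.card P.E : ℂ) * (δ : ℂ) := fun χ => by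
    by_cases hχ : χ ∈ P.nontriv
    · obtain ⟨θ, hθ, -, e⟩ := FrobKernelTI.exists_eq_ind P.K P.centralizer_le P.K_lt_top (P.mem_nontriv.mp hχ)
      obtain ⟨d, hd0, hd⟩ := irr_degree_pos hθ
      exact ⟨d, fun _ => ⟨hd0, by rw [e, indFun_apply_one, hd, P.index_K]⟩⟩
    · exact ⟨0, fun h => absurd h hχ⟩
  choose δ hδ using hex
  have hE : (Nat.card P.E : ℂ) ≠ 0 := Nat.cast_ne_zero.mpr Nat.card_pos.ne'
  refine ⟨δ, hδ, ?_, fun u hu => ?_⟩
  · have h := sum_irr_apply_mul_degree (G := P.A) 1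
    rw [if_pos rfl, P.sum_split, Finset.sum_congr rfl (fun χ hχ => by rw [P.triv_one hcomm hχ, mul_one]),
      Finset.sum_const, P.card_triv hcomm, nsmul_eq_mul, mul_one,
      Finset.sum_congr rfl (fun χ hχ => by rw [(hδ χ hχ).2]), P.card_A] at h
    push_cast at h
    have e : (Nat.card P.E : ℂ) * (1 + (Nat.card P.E : ℂ) * ∑ χ ∈ P.nontriv, (δ χ : ℂ) ^ 2) =
        (Nat.card P.E : ℂ) * (Nat.card P.H : ℂ) := by
      rw [mul_add, mul_one, ← mul_assoc, Finset.mul_sum, mul_comm (Nat.card P.E : ℂ) (Nat.card P.H : ℂ), ← h]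
      congr 1
      exact Finset.sum_congr rfl fun χ _ => by ring
    exact_mod_cast (mul_left_cancel₀ hE e).symm
  · have h := sum_irr_apply_mul_degree (G := P.A) (u : P.A)
    rw [if_neg hu, P.sum_split,
      Finset.sum_congr rfl (fun χ hχ => by rw [P.triv_one hcomm hχ, P.triv_apply hcomm hχ u.2, mul_one]),
      Finset.sum_const, P.card_triv hcomm, nsmul_eq_mul, mul_one,
      Finset.sum_congr rfl (fun χ hχ => by rw [(hδ χ hχ).2])] at h
    apply mul_left_cancel₀ hE
    rw [Finset.mul_sum, mul_neg, mul_one, ← eq_neg_of_add_eq_zero_right h]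
    exact Finset.sum_congr rfl fun χ _ => by ring

open Classical in
theorem card_nontriv_le :
    P.nontriv.card ≤
      ((Finset.univ.filter fun g : G => g ∈ P.H ∧ g ≠ 1).image ConjClasses.mk).card := by
  classical
  letI : Fintype (ConjClasses P.A) := Fintype.ofFinite _
  set C1 : Finset (ConjClasses P.A) := {ConjClasses.mk 1}
  set C2 := (Finset.univ.filter fun x : P.A => x ∈ P.K ∧ x ≠ 1).image ConjClasses.mk with hC2
  set C3 := (Finset.univ.filter fun x : P.A => (x : G) ∈ P.E ∧ x ≠ 1).image ConjClasses.mk with hC3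
  have hall : (Finset.univ : Finset (ConjClasses P.A)) ⊆ C1 ∪ C2 ∪ C3 := by
    intro c _
    obtain ⟨x, rfl⟩ := ConjClasses.mk_surjective c
    obtain ⟨u, hu, d, hd, e⟩ := P.decomp x.2
    by_cases hd1 : d = 1
    · by_cases hu1 : u = 1
      · refine Finset.mem_union_left _ (Finset.mem_union_left _ (Finset.mem_singleton.mpr ?_))
        exact congrArg _ (Subtype.ext (by rw [e, hu1, hd1, mul_one]; rfl))
      · refine Finset.mem_union_left _ (Finset.mem_union_right _ (Finset.mem_image.mpr ⟨x, ?_, rfl⟩))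
        refine Finset.mem_filter.mpr ⟨Finset.mem_univ _, Subgroup.mem_subgroupOf.mpr ?_, fun h => hu1 ?_⟩
        · rw [e, hd1, mul_one]; exact hu
        · have h' : (x : G) = 1 := congrArg Subtype.val h
          rwa [e, hd1, mul_one] at h'
    · refine Finset.mem_union_right _ (Finset.mem_image.mpr ⟨⟨d, (Subgroup.mem_inf.mp hd).1⟩, ?_, ?_⟩)
      · exact Finset.mem_filter.mpr ⟨Finset.mem_univ _, hd, fun h => hd1 (congrArg Subtype.val h)⟩
      · obtain ⟨hda, hdb⟩ := P.mem_E.mp hd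
        have hinj : Function.Injective (fun v : P.H => (⟨(v : G) * (d * (v : G)⁻¹ * d⁻¹),
            mul_mem v.2 (P.conj_mem (P.mem_A.mpr hda) (inv_mem v.2))⟩ : P.H)) := by
          intro v w h
          by_contra hne
          have h' : (v : G) * (d * (v : G)⁻¹ * d⁻¹) = w * (d * (w : G)⁻¹ * d⁻¹) := congrArg Subtype.val h
          have hc : d * ((w : G)⁻¹ * v) = ((w : G)⁻¹ * v) * d := by
            calc d * ((w : G)⁻¹ * v) = (w : G)⁻¹ * ((w : G) * (d * (w : G)⁻¹ * d⁻¹)) * d * v := by group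
              _ = (w : G)⁻¹ * ((v : G) * (d * (v : G)⁻¹ * d⁻¹)) * d * v := by rw [h']
              _ = _ := by group
          exact hd1 (P.disjoint (P.cent (mul_mem (inv_mem w.2) v.2)
            (fun e1 => hne (Subtype.ext (inv_mul_eq_one.mp e1).symm)) hc) hd)
        obtain ⟨v, hv⟩ := Finite.surjective_of_injective hinj ⟨u, hu⟩
        refine ConjClasses.mk_eq_mk_iff_isConj.mpr (isConj_iff.mpr ⟨⟨v, P.le v.2⟩, Subtype.ext ?_⟩)
        have hv' : (v : G) * (d * (v : G)⁻¹ * d⁻¹) = u := congrArg Subtype.val hv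
        show (v : G) * d * (v : G)⁻¹ = x
        rw [e, ← hv']
        group
  have h1 := Finset.card_le_card hall
  rw [Finset.card_univ, ← Nat.card_eq_fintype_card (α := ConjClasses P.A), ← card_irr_eq_card_conjClasses,
    Nat.card_eq_fintype_card, P.card_univ_irr, P.card_triv hcomm] at h1
  have h2 := Finset.card_union_le (C1 ∪ C2) C3
  have h3 := Finset.card_union_le C1 C2
  have h4 : C1.card = 1 := Finset.card_singleton _
  have h5 : C3.card + 1 ≤ Nat.card P.E := by
    have e1 : (Finset.univ.filter fun x : P.A => (x : G) ∈ P.E ∧ x ≠ 1).card + 1 =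
        (Finset.univ.filter fun x : P.A => (x : G) ∈ P.E).card := by
      rw [← Finset.card_erase_add_one (a := (1 : P.A))
        (s := Finset.univ.filter fun x : P.A => (x : G) ∈ P.E) (by simp [P.E.one_mem])]
      congr 2
      ext x
      simp [and_comm]
    have e2 : (Finset.univ.filter fun x : P.A => (x : G) ∈ P.E).card = Nat.card P.E := by
      rw [← Fintype.card_subtype, ← Nat.card_eq_fintype_card]
      exact Nat.card_congr
        { toFun := fun x => ⟨x.1, x.2⟩
          invFun := fun x => ⟨⟨x, (Subgroup.mem_inf.mp x.2).1⟩, x.2⟩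
          left_inv := fun x => rfl
          right_inv := fun x => rfl }
    have := (Finset.univ.filter fun x : P.A => (x : G) ∈ P.E ∧ x ≠ 1).card_image_le (f := ConjClasses.mk)
    rw [hC3]
    omega
  have h6 : C2.card ≤ ((Finset.univ.filter fun g : G => g ∈ P.H ∧ g ≠ 1).image ConjClasses.mk).card := by
    refine Finset.card_le_card_of_injOn (ConjClasses.map P.A.subtype) ?_ ?_
    · intro c hc
      obtain ⟨x, hx, rfl⟩ := Finset.mem_image.mp hc
      obtain ⟨-, hxK, hx1⟩ := Finset.mem_filter.mp hx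
      exact Finset.mem_image.mpr ⟨(x : G), Finset.mem_filter.mpr ⟨Finset.mem_univ _,
        Subgroup.mem_subgroupOf.mp hxK, fun h => hx1 (Subtype.ext h)⟩, rfl⟩
    · intro c hc c' hc' heq
      obtain ⟨x, hx, rfl⟩ := Finset.mem_image.mp hc
      obtain ⟨y, hy, rfl⟩ := Finset.mem_image.mp hc'
      obtain ⟨-, hxK, hx1⟩ := Finset.mem_filter.mp hx
      obtain ⟨-, hyK, -⟩ := Finset.mem_filter.mp hy
      obtain ⟨g, hg⟩ := isConj_iff.mp (ConjClasses.mk_eq_mk_iff_isConj.mp
        (show ConjClasses.mk (x : G) = ConjClasses.mk (y : G) from heq))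
      have hgA : g ∈ P.A := P.fix_of_conj (Subgroup.mem_subgroupOf.mp hxK)
        (by rw [hg]; exact Subgroup.mem_subgroupOf.mp hyK) fun h => hx1 (Subtype.ext h)
      exact ConjClasses.mk_eq_mk_iff_isConj.mpr (isConj_iff.mpr ⟨⟨g, hgA⟩, Subtype.ext hg⟩)
  omega

end Datum

end CfsgLib.ZassenhausDegree
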