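/-
Simple Zassenhaus groups with odd two-point stabilisers and coherent exceptional characters.
-/
import Cfsg.Agent.Lib.ZassenhausDegree.StabiliserChars
import Cfsg.Agent.S0881
import Cfsg.Agent.S0190

set_option autoImplicit false
set_option linter.unusedSectionVars false
set_option linter.style.haveILetI false

namespace CfsgLib.ZassenhausDegree

open MulAction Cfsg CfsgLib.CharTheory CfsgLib.Zassenhaus CfsgLib.ZassenhausOdd
open scoped ComplexConjugate

universe u v

variable {G : Type u} {Ω : Type v} [Group G] [Fintype G] [MulAction G Ω] [Fintype Ω]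

namespace Datum

variable (P : Datum G Ω) [Fintype P.A] [Fintype P.K]

theorem perm_char (g : G) :
    indFun P.A (fun _ => 1) g = (Nat.card (fixedBy Ω g) : ℂ) := by
  haveI : IsMultiplyPretransitive G Ω 2 := P.isZ.2.1
  haveI : IsPretransitive G Ω := ⟨fun x y => by
    by_cases h : x = y
    · exact ⟨1, by rw [one_smul, h]⟩
    · obtain ⟨g, hg, -⟩ := exists_smul_pair P.isZ h (Ne.symm h)
      exact ⟨g, hg⟩⟩
  exact (congrFun (Cfsg.Agent.S0190.result (G := G) Ω P.a) g).symm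

theorem perm_char_kernel {u : G} (hu : u ∈ P.H) (hu1 : u ≠ 1) : indFun P.A (fun _ => 1) u = 1 := by
  rw [P.perm_char]
  have : fixedBy Ω u = {P.a} := by
    ext c
    exact ⟨fun h => P.fix u hu hu1 c h, fun h => by rw [Set.mem_singleton_iff.mp h]; exact P.mem_A.mp (P.le hu)⟩
  rw [this, Nat.card_coe_set_eq, Set.ncard_singleton, Nat.cast_one]

theorem perm_char_one : indFun P.A (fun _ => 1) 1 = ((Nat.card P.H : ℂ) + 1) := by
  rw [P.perm_char, fixedBy_one_eq_univ, Nat.card_coe_set_eq, Set.ncard_univ, Nat.card_eq_fintype_card (α := Ω),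
    ← P.card]
  push_cast; rfl

theorem perm_char_norm : classInner (indFun P.A (fun _ => 1)) (indFun P.A (fun _ => 1)) = 2 := by
  classical
  rw [frobenius_reciprocity P.A (fun _ => 1) (indFun_isClassFunction P.A _)]
  simp only [classInner, P.perm_char, Complex.conj_natCast, one_mul]
  rw [inv_mul_eq_iff_eq_mul₀ (Nat.cast_ne_zero.mpr Nat.card_pos.ne')]
  have e : ∀ x : P.A, (Nat.card (fixedBy Ω (x : G)) : ℂ) = ∑ c : Ω, if (x : G) • c = c then 1 else 0 := fun x => by
    rw [Finset.sum_boole, Nat.card_coe_set_eq, Set.ncard_eq_toFinset_card']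
    congr 2
    ext c
    simp only [Set.mem_toFinset, mem_fixedBy, Finset.mem_filter, Finset.mem_univ, true_and]
  rw [Finset.sum_congr rfl fun x _ => e x, Finset.sum_comm, ← Finset.add_sum_erase _ _ (Finset.mem_univ P.a),
    Finset.sum_congr (s₁ := Finset.univ.erase P.a) rfl (fun c hc => ?_) (g := fun _ => (Nat.card P.E : ℂ))]
  · rw [Finset.sum_const, Finset.card_erase_of_mem (Finset.mem_univ _), Finset.card_univ, ← P.card,
      Nat.add_sub_cancel, nsmul_eq_mul, Finset.sum_boole, Finset.filter_true_of_mem fun x _ => P.mem_A.mp x.2,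
      Finset.card_univ, ← Nat.card_eq_fintype_card, P.card_A]
    push_cast; ring
  · have hca := Finset.ne_of_mem_erase hc
    rw [Finset.sum_boole, ← Fintype.card_subtype, ← Nat.card_eq_fintype_card]
    congr 1
    rw [show Nat.card P.E = Nat.card (D (G := G) P.a c) from card_D_eq P.isZ P.hab (Ne.symm hca)]
    exact Nat.card_congr
      { toFun := fun x => ⟨x.1, mem_D.mpr ⟨P.mem_A.mp x.1.2, x.2⟩⟩
        invFun := fun x => ⟨⟨x, (Subgroup.mem_inf.mp x.2).1⟩, (mem_D.mp x.2).2⟩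
        left_inv := fun x => rfl
        right_inv := fun x => rfl }

theorem isCharacter_one_A : IsCharacter P.A (fun _ => (1 : ℂ)) := isCharacter_one

/-- The permutation character less the trivial one is irreducible. -/
theorem exists_steinberg : ∃ St : IrrCharacter G,
    (St : G → ℂ) = indFun P.A (fun _ => 1) - fun _ => 1 := by
  have hgen : IsGeneralizedCharacter G (indFun P.A (fun _ => 1) - fun _ => 1) :=
    ⟨_, _, isCharacter_indFun P.A P.isCharacter_one_A, isCharacter_one, rfl⟩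
  have h1 : classInner (indFun P.A (fun _ => 1)) (fun _ : G => (1 : ℂ)) = 1 := by
    rw [frobenius_reciprocity P.A (fun _ => 1) (isClassFunction_one (G := G))]
    exact classInner_irr_self isIrrCharacter_one
  refine ⟨⟨_, irr_of_norm_one hgen ?_ ?_⟩, rfl⟩
  · rw [classInner_sub_left, classInner_sub_right, classInner_sub_right, P.perm_char_norm, h1,
      ← classInner_comm (indFun P.A (fun _ => 1)) (fun _ => 1), h1, map_one,
      classInner_irr_self isIrrCharacter_one]
    ring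
  · rw [Pi.sub_apply, P.perm_char_one]
    simp [Nat.card_pos]

variable [IsSimpleGroup G]

set_option maxHeartbeats 3200000 in
theorem false_of_coherent (hodd : Odd (Nat.card P.E)) (hlt : 2 * Nat.card P.E < Nat.card P.H - 1)
    (hcoh : IsCoherent (inducedIrrAbove P.K ⊥) {1}ᶜ (fun α : P.A → ℂ => indFun P.A α)) : False := by
  classical
  set h := Nat.card P.H with hh
  set e := Nat.card P.E with he
  have hoddall : ∀ c d : Ω, c ≠ d → Odd (Nat.card (D (G := G) c d)) :=
    fun c d hcd => card_D_eq P.isZ P.hab hcd ▸ hodd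
  have hcomm : ∀ x ∈ P.E, ∀ y ∈ P.E, x * y = y * x := D_comm P.isZ hoddall P.hab
  have he3 : 3 ≤ e := by
    have := P.two_le_E
    rw [← he] at this
    obtain ⟨t, ht⟩ := hodd
    omega
  have hS : inducedIrrAbove P.K ⊥ = FrobKernelTI.S P.K := by
    ext χ
    constructor
    · rintro ⟨θ, h1, h2, -, rfl⟩
      exact FrobKernelTI.isIrr_ind P.K P.centralizer_le P.K_lt_top h1 h2
    · intro hχ
      obtain ⟨θ, h1, h2, rfl⟩ := FrobKernelTI.exists_eq_ind P.K P.centralizer_le P.K_lt_top hχ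
      exact ⟨θ, h1, h2, fun a ha => by rw [show a = 1 from Subtype.ext (Subgroup.mem_bot.mp ha)], rfl⟩
  obtain ⟨-, star, hstar, hext⟩ := hcoh
  rw [hS] at hstar hext
  obtain ⟨m, hm⟩ := FrobKernelTI.restriction P.A P.K P.centralizer_le P.K_lt_top P.ti hstar hext
  obtain ⟨δ, hδ, hk, hδu⟩ := P.exists_delta hcomm
  rw [← hh, ← he] at hk
  rw [← he] at hδ
  set k := ∑ χ ∈ P.nontriv, δ χ ^ 2 with hkdef
  have hk3 : 3 ≤ k := by
    by_contra hc
    have : e * k ≤ e * 2 := Nat.mul_le_mul_left e (by omega)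
    omega
  have hh0 : (h : ℂ) ≠ 0 := Nat.cast_ne_zero.mpr Nat.card_pos.ne'
  have he0 : (e : ℂ) ≠ 0 := Nat.cast_ne_zero.mpr Nat.card_pos.ne'
  have hhk : (h : ℂ) = 1 + (e : ℂ) * (k : ℂ) := by exact_mod_cast hk
  -- the element of the kernel used below
  obtain ⟨u0, hu0, hu01⟩ := SetLike.exists_of_lt (bot_lt_iff_ne_bot.mpr P.K_ne_bot)
  rw [Subgroup.mem_bot] at hu01
  set u : P.K := ⟨u0, hu0⟩ with hudef
  have hu1 : (u : P.A) ≠ 1 := hu01
  have huG : ((u : P.A) : G) ≠ 1 := fun h => hu1 (Subtype.ext h)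
  have huH : ((u : P.A) : G) ∈ P.H := Subgroup.mem_subgroupOf.mp u.2
  have hcardK : Fintype.card P.K = h := by rw [← Nat.card_eq_fintype_card, P.card_K]
  -- characters with nonzero kernel average
  obtain ⟨St, hSt⟩ := P.exists_steinberg
  set one : IrrCharacter G := ⟨fun _ => 1, isIrrCharacter_one⟩ with hone
  have hSt1 : (St : G → ℂ) 1 = h := by rw [hSt, Pi.sub_apply, P.perm_char_one, hh]; ring
  have hStu : (St : G → ℂ) ((u : P.A) : G) = 0 := by
    rw [hSt, Pi.sub_apply, P.perm_char_kernel huH huG, sub_self]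
  set trivA : IrrCharacter P.A := ⟨fun _ => 1, isIrrCharacter_one⟩ with htrivA
  have htrivmem : trivA ∈ P.triv := P.mem_triv.mpr fun _ _ => rfl
  set M := P.triv.erase trivA with hM
  have hMirr : ∀ μ ∈ M, IsIrrCharacter G (indFun P.A (μ : P.A → ℂ)) ∧
      ∀ v ∈ P.H, v ≠ 1 → indFun P.A (μ : P.A → ℂ) v = 1 := by
    intro μ hμ
    obtain ⟨hμ1, hμT⟩ := Finset.mem_erase.mp hμ
    refine Cfsg.Agent.S0881.result P.isZ P.hab hodd ?_ P.H P.le P.card P.fix (μ : P.A → ℂ)
      ⟨isCharacter_of_irr μ.2, P.triv_one hcomm hμT⟩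
      (fun v hv => P.triv_apply hcomm hμT (Subgroup.mem_subgroupOf.mpr hv))
      (fun h => hμ1 (Subtype.ext h))
    have := P.card
    rw [← hh] at this
    change e < Fintype.card Ω - 2
    omega
  set Th : IrrCharacter P.A → IrrCharacter G :=
    fun μ => if hμ : μ ∈ M then ⟨_, (hMirr μ hμ).1⟩ else one with hTh
  have hThv : ∀ μ ∈ M, (Th μ : G → ℂ) = indFun P.A (μ : P.A → ℂ) := fun μ hμ => by
    simp only [hTh, dif_pos hμ]
  have hTh1 : ∀ μ ∈ M, (Th μ : G → ℂ) 1 = (h : ℂ) + 1 := fun μ hμ => by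
    rw [hThv μ hμ, indFun_apply_one, P.triv_one hcomm (Finset.mem_erase.mp hμ).2, mul_one, index_stabilizer]
    haveI : IsPretransitive G Ω := ⟨fun x y => by
      by_cases hxy : x = y
      · exact ⟨1, by rw [one_smul, hxy]⟩
      · obtain ⟨g, hg, -⟩ := exists_smul_pair P.isZ hxy (Ne.symm hxy)
        exact ⟨g, hg⟩⟩
    rw [orbit_eq_univ, Set.ncard_univ, Nat.card_eq_fintype_card, ← P.card, ← hh]
    push_cast; rfl
  have hThu : ∀ μ ∈ M, (Th μ : G → ℂ) ((u : P.A) : G) = 1 := fun μ hμ => by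
    rw [hThv μ hμ]; exact (hMirr μ hμ).2 _ huH huG
  set Θ := M.image Th with hΘ
  have hThone : ∀ μ ∈ M, Th μ ≠ one := fun μ hμ heq => by
    have e1 := hTh1 μ hμ
    rw [heq] at e1
    have e2 : (1 : ℂ) = (h : ℂ) + 1 := e1
    exact hh0 (by linear_combination -e2)
  have hThSt : ∀ μ ∈ M, Th μ ≠ St := fun μ hμ heq => by
    have e1 := hTh1 μ hμ
    rw [heq, hSt1] at e1
    exact one_ne_zero (α := ℂ) (by linear_combination -e1)
  have hSt_one : one ≠ St := fun heq => by
    have e1 : ((one : IrrCharacter G) : G → ℂ) ((u : P.A) : G) = 1 := rfl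
    rw [heq, hStu] at e1
    exact zero_ne_one e1
  -- kernel averages
  have havg : ∀ f : G → ℂ, ∑ μ ∈ P.triv, classInner (fun x : P.A => f x) (μ : P.A → ℂ) =
      (h : ℂ)⁻¹ * ∑ x : P.K, f ((x : P.A) : G) := fun f => P.sum_inner_triv hcomm _
  have hinner : ∀ (φ : IrrCharacter G) (μ : IrrCharacter P.A),
      classInner (fun x : P.A => (φ : G → ℂ) x) (μ : P.A → ℂ) =
        classInner (φ : G → ℂ) (indFun P.A (μ : P.A → ℂ)) := fun φ μ =>
    (frobenius_reciprocity' P.A _ (isClassFunction_irr φ.2)).symm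
  have hperm : ∀ φ : IrrCharacter G, φ ≠ one → φ ≠ St →
      classInner (φ : G → ℂ) (indFun P.A (trivA : P.A → ℂ)) = 0 := by
    intro φ h1 h2
    have e1 : indFun P.A (trivA : P.A → ℂ) = (fun _ => (1 : ℂ)) + (St : G → ℂ) := by
      rw [hSt, add_sub_cancel]
    rw [e1, classInner_add_right, classInner_irr_ne φ.2 isIrrCharacter_one (fun h => h1 (Subtype.ext h)),
      classInner_irr_ne φ.2 St.2 (fun h => h2 (Subtype.ext h)), add_zero]
  have hrest : ∀ φ : IrrCharacter G, φ ∉ insert one (insert St Θ) →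
      ∀ μ ∈ P.triv, classInner (fun x : P.A => (φ : G → ℂ) x) (μ : P.A → ℂ) = 0 := by
    intro φ hφ μ hμ
    simp only [Finset.mem_insert, not_or] at hφ
    rw [hinner]
    by_cases hμ1 : μ = trivA
    · rw [hμ1]; exact hperm φ hφ.1 hφ.2.1
    · have hμM : μ ∈ M := Finset.mem_erase.mpr ⟨hμ1, hμ⟩
      rw [← hThv μ hμM]
      exact classInner_irr_ne φ.2 (Th μ).2 fun h =>
        hφ.2.2 (Finset.mem_image.mpr ⟨μ, hμM, (Subtype.ext h).symm⟩)
  have hfib : ∀ θ ∈ Θ, (M.filter fun μ => Th μ = θ).card = 2 := by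
    intro θ hθ
    obtain ⟨μ0, hμ0, rfl⟩ := Finset.mem_image.mp hθ
    have e1 := havg (Th μ0 : G → ℂ)
    rw [← Finset.add_sum_erase _ _ htrivmem, hinner, hperm _ (hThone μ0 hμ0) (hThSt μ0 hμ0), zero_add,
      ← hM, Finset.sum_congr rfl (fun μ hμ => by rw [hinner, ← hThv μ hμ]),
      Finset.sum_congr rfl (fun μ _ => show classInner (Th μ0 : G → ℂ) (Th μ : G → ℂ) =
        if Th μ = Th μ0 then 1 else 0 from by
          by_cases heq : Th μ = Th μ0
          · rw [if_pos heq, heq, classInner_irr_self (Th μ0).2]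
          · rw [if_neg heq, classInner_irr_ne (Th μ0).2 (Th μ).2 fun h => heq (Subtype.ext h).symm]),
      Finset.sum_boole, ← Finset.add_sum_erase _ _ (Finset.mem_univ (1 : P.K)),
      Finset.sum_congr (s₁ := Finset.univ.erase (1 : P.K)) rfl (fun x hx => by
        rw [hThv μ0 hμ0, (hMirr μ0 hμ0).2 _ (Subgroup.mem_subgroupOf.mp x.2)
          (fun h => Finset.ne_of_mem_erase hx (Subtype.ext (Subtype.ext h)))]),
      Finset.sum_const, Finset.card_erase_of_mem (Finset.mem_univ _), Finset.card_univ, hcardK,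
      nsmul_eq_mul, Nat.cast_sub (by omega : 1 ≤ h)] at e1
    simp only [Subgroup.coe_one] at e1
    rw [hTh1 μ0 hμ0] at e1
    have e2 : ((M.filter fun μ => Th μ = Th μ0).card : ℂ) = 2 := by
      rw [e1]; push_cast; field_simp; ring
    exact_mod_cast e2
  have hΘcard : 2 * Θ.card + 1 = e := by
    have e1 : M.card = 2 * Θ.card := by
      rw [Finset.card_eq_sum_card_fiberwise (f := Th) (t := Θ) fun μ hμ => Finset.mem_image_of_mem _ hμ,
        Finset.sum_congr rfl hfib, Finset.sum_const, smul_eq_mul, mul_comm]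
    have e2 : M.card + 1 = e := by rw [hM, Finset.card_erase_add_one htrivmem, P.card_triv hcomm]
    omega
  -- exceptional characters
  have hirr : ∀ χ ∈ P.nontriv, IsIrrCharacter G (star (χ : P.A → ℂ)) ∨ IsIrrCharacter G (-star (χ : P.A → ℂ)) :=
    fun χ hχ => FrobKernelTI.irr_or_neg P.A P.K P.centralizer_le P.K_lt_top P.ti hstar hext (P.mem_nontriv.mp hχ)
  have hsgn : ∀ χ : IrrCharacter P.A, ∃ φ : IrrCharacter G, ∃ s : ℂ, χ ∈ P.nontriv →
      (s = 1 ∨ s = -1) ∧ star (χ : P.A → ℂ) = s • (φ : G → ℂ) := fun χ => by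
    by_cases hχ : χ ∈ P.nontriv
    · rcases hirr χ hχ with h | h
      · exact ⟨⟨_, h⟩, 1, fun _ => ⟨Or.inl rfl, (one_smul _ _).symm⟩⟩
      · exact ⟨⟨_, h⟩, -1, fun _ => ⟨Or.inr rfl, by simp⟩⟩
    · exact ⟨one, 1, fun h => absurd h hχ⟩
  choose Ex s hEx using hsgn
  set B := P.nontriv.image Ex with hB
  have hExinj : Set.InjOn Ex (P.nontriv : Set (IrrCharacter P.A)) := by
    intro χ hχ ξ hξ heq
    by_contra hne
    have hχ' := P.mem_nontriv.mp hχ
    have hξ' := P.mem_nontriv.mp hξ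
    have e1 := hstar.2.2.1 _ (Submodule.subset_span hχ') _ (Submodule.subset_span hξ')
    rw [classInner_irr_ne hχ'.1 hξ'.1 (fun h => hne (Subtype.ext h)), (hEx χ hχ).2, (hEx ξ hξ).2, heq,
      classInner_smul_left, classInner_smul_right, classInner_irr_self (Ex ξ).2] at e1
    rcases (hEx χ hχ).1 with a | a <;> rcases (hEx ξ hξ).1 with b | b <;> simp [a, b] at e1
  have htwo : ∃ χ ∈ FrobKernelTI.S P.K, ∃ ξ ∈ FrobKernelTI.S P.K, χ ≠ ξ := by
    obtain ⟨χ, hχ, hd⟩ := FrobKernelTI.exists_degree_index P.K P.centralizer_le P.K_lt_top P.K_ne_bot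
    by_contra hcon
    push Not at hcon
    have hχ' : (⟨χ, hχ.1⟩ : IrrCharacter P.A) ∈ P.nontriv := P.mem_nontriv.mpr hχ
    have e1 : P.nontriv = {⟨χ, hχ.1⟩} := by
      refine Finset.eq_singleton_iff_unique_mem.mpr ⟨hχ', fun ξ hξ => Subtype.ext ?_⟩
      exact (hcon χ hχ _ (P.mem_nontriv.mp hξ)).symm
    have e2 : (e : ℂ) = (e : ℂ) * (δ ⟨χ, hχ.1⟩ : ℂ) := by
      rw [← (hδ _ hχ').2]
      show _ = χ 1
      rw [hd, P.index_K]
    have e3 : δ ⟨χ, hχ.1⟩ = 1 := by
      have : (e : ℂ) * (δ ⟨χ, hχ.1⟩ : ℂ) = (e : ℂ) * ((1 : ℕ) : ℂ) := by rw [Nat.cast_one, mul_one]; exact e2.symm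
      exact_mod_cast mul_left_cancel₀ he0 this
    rw [hkdef, e1, Finset.sum_singleton, e3] at hk3
    omega
  have hexc : ∀ φ : IrrCharacter G, φ ∈ B ↔ ∃ a : P.A, a ∈ P.K ∧ ∃ b : P.A, b ∈ P.K ∧ a ≠ 1 ∧ b ≠ 1 ∧
      (φ : G → ℂ) a ≠ (φ : G → ℂ) b := by
    intro φ
    rw [← FrobKernelTI.exceptional_iff P.A P.K P.centralizer_le P.K_lt_top P.ti hstar hext htwo φ.2]
    constructor
    · intro h
      obtain ⟨χ, hχ, rfl⟩ := Finset.mem_image.mp h
      refine ⟨(χ : P.A → ℂ), P.mem_nontriv.mp hχ, ?_⟩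
      rcases (hEx χ hχ).1 with a | a
      · left; rw [(hEx χ hχ).2, a, one_smul]
      · right; rw [(hEx χ hχ).2, a, neg_one_smul, neg_neg]
    · rintro ⟨χ, hχ, hor⟩
      have hχ' : (⟨χ, hχ.1⟩ : IrrCharacter P.A) ∈ P.nontriv := P.mem_nontriv.mpr hχ
      refine Finset.mem_image.mpr ⟨_, hχ', ?_⟩
      by_contra hne
      have e1 := classInner_irr_ne (Ex ⟨χ, hχ.1⟩).2 φ.2 (fun h => hne (Subtype.ext h))
      have e2 := (hEx _ hχ').2
      have e3 : classInner (star χ) (φ : G → ℂ) = 0 := by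
        rw [show star χ = s ⟨χ, hχ.1⟩ • (Ex ⟨χ, hχ.1⟩ : G → ℂ) from e2, classInner_smul_left, e1, mul_zero]
      rcases hor with h | h
      · rw [← h, classInner_irr_self φ.2] at e3; exact one_ne_zero e3
      · rw [show star χ = -(φ : G → ℂ) by rw [h, neg_neg], classInner_neg_left, classInner_irr_self φ.2] at e3
        exact one_ne_zero (neg_eq_zero.mp e3)
  have hBdis : ∀ φ ∈ B, φ ∉ insert one (insert St Θ) := by
    intro φ hφ hmem
    obtain ⟨a, ha, b, hb, ha1, hb1, hab⟩ := (hexc φ).mp hφ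
    have ha' : (a : G) ∈ P.H ∧ (a : G) ≠ 1 := ⟨Subgroup.mem_subgroupOf.mp ha, fun h => ha1 (Subtype.ext h)⟩
    have hb' : (b : G) ∈ P.H ∧ (b : G) ≠ 1 := ⟨Subgroup.mem_subgroupOf.mp hb, fun h => hb1 (Subtype.ext h)⟩
    apply hab
    rcases Finset.mem_insert.mp hmem with rfl | hmem
    · rfl
    rcases Finset.mem_insert.mp hmem with rfl | hmem
    · rw [hSt, Pi.sub_apply, Pi.sub_apply, P.perm_char_kernel ha'.1 ha'.2, P.perm_char_kernel hb'.1 hb'.2]
    · obtain ⟨μ, hμ, rfl⟩ := Finset.mem_image.mp hmem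
      rw [hThv μ hμ, (hMirr μ hμ).2 _ ha'.1 ha'.2, (hMirr μ hμ).2 _ hb'.1 hb'.2]
  have hsum0 : ∀ φ : IrrCharacter G, φ ∉ insert one (insert St Θ) → ∑ x : P.K, (φ : G → ℂ) ((x : P.A) : G) = 0 := by
    intro φ hφ
    have e1 := havg (φ : G → ℂ)
    rw [Finset.sum_eq_zero (hrest φ hφ)] at e1
    exact (mul_eq_zero.mp e1.symm).resolve_left (inv_ne_zero hh0)
  -- values of the exceptional characters
  have hstarv : ∀ χ ∈ P.nontriv, ∀ x : P.K, (x : P.A) ≠ 1 →
      star (χ : P.A → ℂ) ((x : P.A) : G) = (χ : P.A → ℂ) x + (m : ℂ) * (δ χ : ℂ) := by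
    intro χ hχ x hx
    have := hm _ (P.mem_nontriv.mp hχ) x x.2 hx
    rw [(hδ χ hχ).2, P.index_K, ← he] at this
    rw [← sub_eq_iff_eq_add', this]
    field_simp
  have hstar1 : ∀ χ ∈ P.nontriv,
      star (χ : P.A → ℂ) 1 = (δ χ : ℂ) * ((e : ℂ) * (1 - (m : ℂ) * (k : ℂ))) := by
    intro χ hχ
    have hB' : Ex χ ∈ B := Finset.mem_image_of_mem _ hχ
    have e1 : ∑ x : P.K, star (χ : P.A → ℂ) ((x : P.A) : G) = 0 := by
      simp only [(hEx χ hχ).2, Pi.smul_apply, smul_eq_mul, ← Finset.mul_sum, hsum0 _ (hBdis _ hB'), mul_zero]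
    have e2 : ∑ x : P.K, (χ : P.A → ℂ) x = 0 := by
      have := P.sum_inner_triv hcomm (χ : P.A → ℂ)
      rw [Finset.sum_eq_zero (fun μ hμ => classInner_irr_ne χ.2 μ.2 fun h => by
        obtain ⟨-, n, hn, hne⟩ := P.mem_nontriv.mp hχ
        exact hne (by rw [h]; exact P.mem_triv.mp hμ n hn))] at this
      exact (mul_eq_zero.mp this.symm).resolve_left (inv_ne_zero hh0)
    rw [← Finset.add_sum_erase _ _ (Finset.mem_univ (1 : P.K))] at e1 e2
    rw [Finset.sum_congr (s₁ := Finset.univ.erase (1 : P.K)) rfl (fun x hx => hstarv χ hχ x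
      (fun h => Finset.ne_of_mem_erase hx (Subtype.ext h))), Finset.sum_add_distrib, Finset.sum_const,
      Finset.card_erase_of_mem (Finset.mem_univ _), Finset.card_univ, hcardK, nsmul_eq_mul,
      Nat.cast_sub (by omega : 1 ≤ h)] at e1
    simp only [Subgroup.coe_one, (hδ χ hχ).2, Nat.cast_one] at e1 e2
    linear_combination e1 - e2 - (m : ℂ) * (δ χ : ℂ) * hhk
  -- characters constant on the kernel with zero average
  set C := (Finset.univ \ (insert one (insert St Θ) ∪ B)) with hCdef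
  have hC : ∀ φ ∈ C, ∃ c : ℤ, c ≠ 0 ∧ (φ : G → ℂ) ((u : P.A) : G) = c ∧
      (φ : G → ℂ) 1 = -((h : ℂ) - 1) * c := by
    intro φ hφ
    simp only [hCdef, Finset.mem_sdiff, Finset.mem_univ, true_and, Finset.mem_union, not_or] at hφ
    have hconst : ∀ x : P.K, (x : P.A) ≠ 1 → (φ : G → ℂ) ((x : P.A) : G) = (φ : G → ℂ) ((u : P.A) : G) := by
      intro x hx
      by_contra hne
      exact hφ.2 ((hexc φ).mpr ⟨x, x.2, u, u.2, hx, hu1, hne⟩)
    set c0 := (φ : G → ℂ) ((u : P.A) : G) with hc0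
    have hd : (φ : G → ℂ) 1 = -((h : ℂ) - 1) * c0 := by
      have e1 := hsum0 φ hφ.1
      rw [← Finset.add_sum_erase _ _ (Finset.mem_univ (1 : P.K)),
        Finset.sum_congr (s₁ := Finset.univ.erase (1 : P.K)) rfl (fun x hx => hconst x
          (fun h => Finset.ne_of_mem_erase hx (Subtype.ext h))),
        Finset.sum_const, Finset.card_erase_of_mem (Finset.mem_univ _), Finset.card_univ, hcardK, nsmul_eq_mul,
        Nat.cast_sub (by omega : 1 ≤ h)] at e1
      simp only [Subgroup.coe_one, Nat.cast_one] at e1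
      linear_combination e1
    obtain ⟨θ, hθ, hθne, -, hθ1⟩ := exists_linear_above P.K ⊥
      (by haveI := FrobKernelTI.isNilpotent P.K P.centralizer_le P.K_lt_top; infer_instance)
      (bot_lt_iff_ne_bot.mpr P.K_ne_bot)
    obtain ⟨n, hn⟩ := classInner_char_nat
      (isCharacter_restrict (isCharacter_restrict (isCharacter_of_irr φ.2) P.A) P.K) (isCharacter_of_irr hθ)
    have e2 : classInner (fun x : P.K => (φ : G → ℂ) ((x : P.A) : G)) θ = -c0 := by
      have h0 : ∑ x : P.K, conj (θ x) = 0 := by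
        have := classInner_irr_ne isIrrCharacter_one hθ (fun h => hθne h.symm)
        simp only [classInner, one_mul] at this
        exact (mul_eq_zero.mp this).resolve_left (inv_ne_zero (Nat.cast_ne_zero.mpr Nat.card_pos.ne'))
      simp only [classInner]
      rw [inv_mul_eq_iff_eq_mul₀ (Nat.cast_ne_zero.mpr Nat.card_pos.ne'), P.card_K, ← hh]
      rw [← Finset.add_sum_erase _ _ (Finset.mem_univ (1 : P.K))] at h0 ⊢
      rw [Finset.sum_congr (s₁ := Finset.univ.erase (1 : P.K)) rfl (fun x hx => by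
          rw [hconst x (fun h => Finset.ne_of_mem_erase hx (Subtype.ext h))]),
        ← Finset.mul_sum, eq_neg_of_add_eq_zero_right h0]
      simp only [Subgroup.coe_one, hθ1, map_one, hd]
      ring
    rw [e2] at hn
    refine ⟨-(n : ℤ), fun h0 => ?_, by push_cast; rw [← hn, neg_neg], by rw [hd]; push_cast; rw [← hn, neg_neg]⟩
    refine irr_ne_zero φ.2 ?_
    have : c0 = ((-(n : ℤ) : ℤ) : ℂ) := by push_cast; rw [← hn, neg_neg]
    rw [hd, this, h0]; simp
  choose! c hc0 hcu hc1 using hC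
  -- column orthogonality
  have hStΘ : St ∉ Θ := fun h => by
    obtain ⟨μ, hμ, e⟩ := Finset.mem_image.mp h
    exact hThSt μ hμ e
  have honeΘ : one ∉ insert St Θ := fun h => by
    rcases Finset.mem_insert.mp h with e | h
    · exact hSt_one e
    · obtain ⟨μ, hμ, e⟩ := Finset.mem_image.mp h
      exact hThone μ hμ e
  have hdisj : Disjoint (insert one (insert St Θ)) B := Finset.disjoint_right.mpr hBdis
  have horth := sum_irr_apply_mul_degree (G := G) ((u : P.A) : G)
  rw [if_neg huG, ← Finset.union_sdiff_of_subset (Finset.subset_univ (insert one (insert St Θ) ∪ B)),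
    Finset.sum_union Finset.disjoint_sdiff, Finset.sum_union hdisj, Finset.sum_insert honeΘ,
    Finset.sum_insert hStΘ, hStu, zero_mul, zero_add, ← hCdef,
    show ((one : IrrCharacter G) : G → ℂ) ((u : P.A) : G) * (one : G → ℂ) 1 = 1 from one_mul 1,
    Finset.sum_congr rfl (fun θ hθ => by
      obtain ⟨μ, hμ, rfl⟩ := Finset.mem_image.mp hθ
      rw [hThu μ hμ, hTh1 μ hμ, one_mul] : ∀ θ ∈ Θ, (θ : G → ℂ) ((u : P.A) : G) * (θ : G → ℂ) 1 = (h : ℂ) + 1),
    Finset.sum_const, nsmul_eq_mul, hB, Finset.sum_image hExinj,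
    Finset.sum_congr rfl (fun χ hχ => by
      have e1 : (Ex χ : G → ℂ) ((u : P.A) : G) * (Ex χ : G → ℂ) 1 =
          star (χ : P.A → ℂ) ((u : P.A) : G) * star (χ : P.A → ℂ) 1 := by
        rw [(hEx χ hχ).2]
        rcases (hEx χ hχ).1 with a | a <;> simp [a]
      rw [e1, hstarv χ hχ u hu1, hstar1 χ hχ] :
      ∀ χ ∈ P.nontriv, (Ex χ : G → ℂ) ((u : P.A) : G) * (Ex χ : G → ℂ) 1 =
        ((χ : P.A → ℂ) u + (m : ℂ) * (δ χ : ℂ)) * ((δ χ : ℂ) * ((e : ℂ) * (1 - (m : ℂ) * (k : ℂ))))),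
    Finset.sum_congr rfl (fun φ hφ => by rw [hcu φ hφ, hc1 φ hφ] :
      ∀ φ ∈ C, (φ : G → ℂ) ((u : P.A) : G) * (φ : G → ℂ) 1 = (c φ : ℂ) * (-((h : ℂ) - 1) * (c φ : ℂ)))] at horth
  set K2 := ∑ φ ∈ C, c φ ^ 2 with hK2
  have heqC : (1 : ℂ) + Θ.card * ((h : ℂ) + 1) - (e : ℂ) * (1 - (m : ℂ) * k) ^ 2 - (e : ℂ) * k * (K2 : ℂ) = 0 := by
    have e1 : ∑ χ ∈ P.nontriv, ((χ : P.A → ℂ) u + (m : ℂ) * (δ χ : ℂ)) * ((δ χ : ℂ) * ((e : ℂ) * (1 - (m : ℂ) * (k : ℂ)))) =
        ((e : ℂ) * (1 - (m : ℂ) * (k : ℂ))) * (-1 + (m : ℂ) * (k : ℂ)) := by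
      have a1 : (k : ℂ) = ∑ χ ∈ P.nontriv, (δ χ : ℂ) ^ 2 := by rw [hkdef]; push_cast; rfl
      rw [← hδu u hu1]
      conv_rhs => arg 2; arg 2; rw [a1, Finset.mul_sum]
      rw [← Finset.sum_add_distrib, Finset.mul_sum]
      exact Finset.sum_congr rfl fun χ _ => by ring
    have e2 : ∑ φ ∈ C, (c φ : ℂ) * (-((h : ℂ) - 1) * (c φ : ℂ)) = -((e : ℂ) * k) * (K2 : ℂ) := by
      rw [hK2, Int.cast_sum, Finset.mul_sum]
      exact Finset.sum_congr rfl fun φ _ => by rw [hhk]; push_cast; ring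
    rw [e1, e2] at horth
    linear_combination horth
  have heqZ : (1 : ℤ) + Θ.card * ((h : ℤ) + 1) - (e : ℤ) * (1 - m * k) ^ 2 - (e : ℤ) * k * K2 = 0 := by
    exact_mod_cast heqC
  -- counting classes
  letI : Fintype (ConjClasses G) := Fintype.ofFinite _
  have hn : Fintype.card Ω = h + 1 := P.card.symm
  have hDe : ∀ c d : Ω, c ≠ d → Nat.card (D (G := G) c d) = e := fun c d hcd => card_D_eq P.isZ hcd P.hab
  have hcount : e ≤ 2 * C.card + 1 := by
    have hfree := free_classes P.isZ hoddall hn hDe (by omega)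
    set C2 := ((Finset.univ.filter fun g : G => g ∈ P.H ∧ g ≠ 1).image ConjClasses.mk) with hC2
    set F3 := Finset.univ.filter fun g : G => g ∈ P.E ∧ g ≠ 1 with hF3
    set C3 := F3.image ConjClasses.mk with hC3
    set C4 := ((Finset.univ : Finset G).filter fun g => fixSet (Ω := Ω) g = ∅).image ConjClasses.mk with hC4
    have hF3c : e ≤ F3.card + 1 := by
      have e1 : (Finset.univ.filter fun g : G => g ∈ P.E).card = e := by
        rw [← Fintype.card_subtype, he, Nat.card_eq_fintype_card]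
      have e2 : (Finset.univ.filter fun g : G => g ∈ P.E) ⊆ insert 1 F3 := fun g hg => by
        by_cases hg1 : g = 1
        · exact Finset.mem_insert.mpr (Or.inl hg1)
        · exact Finset.mem_insert_of_mem (Finset.mem_filter.mpr
            ⟨Finset.mem_univ _, (Finset.mem_filter.mp hg).2, hg1⟩)
      have := Finset.card_le_card e2
      have := Finset.card_insert_le (1 : G) F3
      omega
    have hC3c : F3.card ≤ 2 * C3.card := by
      refine Finset.card_le_mul_card_image _ 2 fun cl hcl => ?_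
      obtain ⟨x, hx, rfl⟩ := Finset.mem_image.mp hcl
      refine (Finset.card_le_card (t := ({x, x⁻¹} : Finset G)) fun y hy => ?_).trans Finset.card_le_two
      obtain ⟨hy, hyx⟩ := Finset.mem_filter.mp hy
      obtain ⟨-, hxE, hx1⟩ := Finset.mem_filter.mp hx
      obtain ⟨-, hyE, -⟩ := Finset.mem_filter.mp hy
      obtain ⟨g, hg⟩ := isConj_iff.mp (ConjClasses.mk_eq_mk_iff_isConj.mp hyx.symm)
      rcases pair_of_mem_normalizer P.isZ P.hab ⟨x, hxE, hx1, by rw [hg]; exact hyE⟩ with hgp | hgp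
      · refine Finset.mem_insert.mpr (Or.inl ?_)
        rw [← hg, hcomm g (P.mem_E.mpr hgp) x hxE, mul_inv_cancel_right]
      · obtain ⟨w, hww, hwa, hwb⟩ := exists_swap P.isZ hoddall P.hab
        have hgE : w * g ∈ P.E := P.mem_E.mpr ⟨by rw [mul_smul, hgp.1, hwb], by rw [mul_smul, hgp.2, hwa]⟩
        refine Finset.mem_insert.mpr (Or.inr (Finset.mem_singleton.mpr ?_))
        have hwi := swap_inverts P.isZ hoddall P.hab hww hwa hwb x hxE
        rw [inv_eq_of_mul_eq_one_right hww] at hwi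
        calc y = g * x * g⁻¹ := hg.symm
          _ = w * ((w * g) * x * (w * g)⁻¹) * w := by
            rw [mul_inv_rev, inv_eq_of_mul_eq_one_right hww,
              show w * (w * g * x * (g⁻¹ * w)) * w = w * w * (g * x * g⁻¹) * (w * w) by group, hww, one_mul, mul_one]
          _ = w * x * w := by rw [hcomm _ hgE x hxE, mul_inv_cancel_right]
          _ = x⁻¹ := hwi
    have hfc : ∀ x y : G, ConjClasses.mk x = ConjClasses.mk y →
        (fixSet (Ω := Ω) x).card = (fixSet (Ω := Ω) y).card := by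
      intro x y hxy
      obtain ⟨g, rfl⟩ := isConj_iff.mp (ConjClasses.mk_eq_mk_iff_isConj.mp hxy)
      refine Finset.card_bij (fun c _ => g • c) (fun c hc => ?_) (fun c _ d _ h => MulAction.injective g h) ?_
      · rw [mem_fixSet] at hc ⊢
        rw [mul_smul, mul_smul, inv_smul_smul, hc]
      · intro c hc
        rw [mem_fixSet, mul_smul, mul_smul, ← eq_inv_smul_iff] at hc
        exact ⟨g⁻¹ • c, mem_fixSet.mpr hc, smul_inv_smul g c⟩
    have hf0 : ∀ g : G, g = 1 → (fixSet (Ω := Ω) g).card = h + 1 := by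
      rintro g rfl
      simp [fixSet, ← hn]
    have hf1 : ∀ g : G, g ∈ P.H → g ≠ 1 → (fixSet (Ω := Ω) g).card = 1 := fun g hg hg1 =>
      Finset.card_eq_one.mpr ⟨P.a, Finset.eq_singleton_iff_unique_mem.mpr
        ⟨mem_fixSet.mpr (P.mem_A.mp (P.le hg)), fun c hc => P.fix g hg hg1 c (mem_fixSet.mp hc)⟩⟩
    have hf2 : ∀ g : G, g ∈ P.E → g ≠ 1 → (fixSet (Ω := Ω) g).card = 2 := fun g hg hg1 =>
      le_antisymm (card_fixSet_le P.isZ hg1) (Finset.one_lt_card.mpr ⟨P.a, mem_fixSet.mpr (P.mem_E.mp hg).1,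
        P.b, mem_fixSet.mpr (P.mem_E.mp hg).2, P.hab⟩)
    let nf : ConjClasses G → ℕ := fun cl => (fixSet (Ω := Ω) (Quotient.out cl)).card
    have hnf : ∀ g : G, nf (ConjClasses.mk g) = (fixSet (Ω := Ω) g).card := fun g =>
      hfc _ g (Quotient.out_eq (ConjClasses.mk g))
    have h1 : ∀ cl ∈ ({ConjClasses.mk 1} : Finset (ConjClasses G)), nf cl = h + 1 := fun cl hcl => by
      rw [Finset.mem_singleton.mp hcl, hnf, hf0 1 rfl]
    have h2 : ∀ cl ∈ C2, nf cl = 1 := fun cl hcl => by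
      obtain ⟨g, hg, rfl⟩ := Finset.mem_image.mp hcl
      rw [hnf, hf1 g (Finset.mem_filter.mp hg).2.1 (Finset.mem_filter.mp hg).2.2]
    have h3 : ∀ cl ∈ C3, nf cl = 2 := fun cl hcl => by
      obtain ⟨g, hg, rfl⟩ := Finset.mem_image.mp hcl
      rw [hnf, hf2 g (Finset.mem_filter.mp hg).2.1 (Finset.mem_filter.mp hg).2.2]
    have h4 : ∀ cl ∈ C4, nf cl = 0 := fun cl hcl => by
      obtain ⟨g, hg, rfl⟩ := Finset.mem_image.mp hcl
      rw [hnf, (Finset.mem_filter.mp hg).2, Finset.card_empty]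
    have d12 : Disjoint ({ConjClasses.mk 1} : Finset (ConjClasses G)) C2 :=
      Finset.disjoint_left.mpr fun cl a b => by have := (h1 cl a).symm.trans (h2 cl b); omega
    have d34 : Disjoint C3 C4 :=
      Finset.disjoint_left.mpr fun cl a b => by have := (h3 cl a).symm.trans (h4 cl b); omega
    have d : Disjoint (({ConjClasses.mk 1} : Finset (ConjClasses G)) ∪ C2) (C3 ∪ C4) :=
      Finset.disjoint_left.mpr fun cl a b => by
        rcases Finset.mem_union.mp a with a | a <;> rcases Finset.mem_union.mp b with b | b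
        · have := (h1 cl a).symm.trans (h3 cl b); omega
        · have := (h1 cl a).symm.trans (h4 cl b); omega
        · have := (h2 cl a).symm.trans (h3 cl b); omega
        · have := (h2 cl a).symm.trans (h4 cl b); omega
    have hu := Finset.card_le_univ ((({ConjClasses.mk 1} : Finset (ConjClasses G)) ∪ C2) ∪ (C3 ∪ C4))
    rw [Finset.card_union_of_disjoint d, Finset.card_union_of_disjoint d12, Finset.card_union_of_disjoint d34,
      Finset.card_singleton, ← Nat.card_eq_fintype_card, ← card_irr_eq_card_conjClasses,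
      Nat.card_eq_fintype_card, ← Finset.card_univ,
      ← Finset.union_sdiff_of_subset (Finset.subset_univ (insert one (insert St Θ) ∪ B)),
      Finset.card_union_of_disjoint Finset.disjoint_sdiff, Finset.card_union_of_disjoint hdisj,
      Finset.card_insert_of_notMem honeΘ, Finset.card_insert_of_notMem hStΘ, ← hCdef] at hu
    have hBc : B.card ≤ C2.card := Finset.card_image_le.trans (P.card_nontriv_le hcomm)
    omega
  -- the exceptional degree is the index
  have hK2c : (C.card : ℤ) ≤ K2 := by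
    rw [hK2, Finset.card_eq_sum_ones, Nat.cast_sum]
    refine Finset.sum_le_sum fun φ hφ => ?_
    have := hc0 φ hφ
    push_cast
    nlinarith [mul_self_pos.mpr this]
  have hm0 : m = 0 := by
    have e1 : (h : ℤ) = 1 + (e : ℤ) * k := by exact_mod_cast hk
    have e2 : 2 * (Θ.card : ℤ) + 1 = e := by exact_mod_cast hΘcard
    have e3 : (e : ℤ) ≤ 2 * C.card + 1 := by exact_mod_cast hcount
    have e4 : (3 : ℤ) ≤ k := by exact_mod_cast hk3
    have e5 : (3 : ℤ) ≤ e := by exact_mod_cast he3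
    have e6 : (1 - m * k) ^ 2 ≤ 1 := by
      rw [e1] at heqZ
      have : (e : ℤ) * k * ((e : ℤ) - 1) ≤ (e : ℤ) * k * (2 * K2) :=
        mul_le_mul_of_nonneg_left (by linarith) (by positivity)
      have h2 : 2 * ((e : ℤ) * (1 - m * k) ^ 2) ≤ 2 * ((e : ℤ) * 1) := by nlinarith
      exact le_of_mul_le_mul_left (by linarith : (e : ℤ) * (1 - m * k) ^ 2 ≤ (e : ℤ) * 1) (by linarith)
    have e7 := abs_le.mp ((sq_le_one_iff_abs_le_one _).mp e6)
    rcases lt_trichotomy m 0 with hm' | hm' | hm'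
    · nlinarith
    · exact hm'
    · nlinarith
  -- the square of an exceptional character of least degree
  obtain ⟨χ, hχ, hd⟩ := FrobKernelTI.exists_degree_index P.K P.centralizer_le P.K_lt_top P.K_ne_bot
  set χ' : IrrCharacter P.A := ⟨χ, hχ.1⟩
  have hχ' : χ' ∈ P.nontriv := P.mem_nontriv.mpr hχ
  have hδ1 : δ χ' = 1 := by
    have : (e : ℂ) * (δ χ' : ℂ) = (e : ℂ) * ((1 : ℕ) : ℂ) := by
      rw [Nat.cast_one, mul_one, ← (hδ χ' hχ').2]
      show χ 1 = _
      rw [hd, P.index_K]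
    exact_mod_cast mul_left_cancel₀ he0 this
  have hXB : Ex χ' ∈ B := Finset.mem_image_of_mem _ hχ'
  have hXA : ∀ x : P.A, star χ x = χ x := by
    intro x
    by_cases hx : x ∈ P.K
    · by_cases hx1 : x = 1
      · subst hx1
        show star (χ' : P.A → ℂ) 1 = χ 1
        rw [hstar1 χ' hχ', hδ1, hd, P.index_K, hm0]; push_cast; ring
      · have := hstarv χ' hχ' ⟨x, hx⟩ hx1
        rw [hm0] at this
        simpa using this
    · rw [FrobKernelTI.vanish P.K P.centralizer_le P.K_lt_top hχ hx,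
        show star χ = s χ' • (Ex χ' : G → ℂ) from (hEx χ' hχ').2, Pi.smul_apply,
        show (Ex χ' : G → ℂ) x = 0 from P.vanish_of_inner hcomm (f := fun y : P.A => (Ex χ' : G → ℂ) y)
          (isClassFunction_char (isCharacter_restrict (isCharacter_of_irr (Ex χ').2) P.A))
          (hrest _ (hBdis _ hXB)) hx, smul_zero]
  set ψ : G → ℂ := (Ex χ' : G → ℂ) * fun g => conj ((Ex χ' : G → ℂ) g) with hψ
  have hψc : IsCharacter G ψ :=
    isCharacter_mul (isCharacter_of_irr (Ex χ').2) (isCharacter_conj (isCharacter_of_irr (Ex χ').2))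
  have hψA : ∀ x : P.A, ψ x = χ x * conj (χ x) := by
    intro x
    rw [← hXA x, show star χ = s χ' • (Ex χ' : G → ℂ) from (hEx χ' hχ').2]
    rcases (hEx χ' hχ').1 with a | a <;> simp [hψ, a]
  have hψμ : ∀ μ ∈ P.triv, classInner ψ (indFun P.A (μ : P.A → ℂ)) = 1 := by
    intro μ hμ
    rw [frobenius_reciprocity' P.A _ (isClassFunction_char hψc), ← classInner_irr_self hχ.1]
    simp only [classInner]
    congr 1
    refine Finset.sum_congr rfl fun x _ => ?_
    rw [hψA]
    by_cases hx : x ∈ P.K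
    · rw [P.triv_apply hcomm hμ hx, map_one, mul_one]
    · rw [FrobKernelTI.vanish P.K P.centralizer_le P.K_lt_top hχ hx]; simp
  obtain ⟨hcl, hcoef⟩ := isCharacter_iff_coeff_nat.mp hψc
  choose n hn' using fun φ : IrrCharacter G => hcoef φ φ.2
  choose d hd0 hd' using fun φ : IrrCharacter G => irr_degree_pos φ.2
  have hψ1 : ψ 1 = (e : ℂ) * e := by
    have := hψA 1
    rw [hd, P.index_K, Complex.conj_natCast] at this
    exact this
  have htot : e * e = ∑ φ, n φ * d φ := by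
    have e1 := congrFun (eq_sum_irr hcl) 1
    rw [hψ1, Finset.sum_apply] at e1
    simp only [Pi.smul_apply, smul_eq_mul, hn', hd'] at e1
    exact_mod_cast e1
  have hn1 : n one = 1 := by
    have e1 : classInner ψ (fun _ => (1 : ℂ)) = 1 := by
      have e2 := classInner_irr_self (Ex χ').2
      simpa [classInner, hψ] using e2
    have e2 := hn' one
    rw [show ((one : IrrCharacter G) : G → ℂ) = fun _ => (1 : ℂ) from rfl, e1] at e2
    exact_mod_cast e2.symm
  have hd1 : d one = 1 := by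
    have e1 : (1 : ℂ) = d one := hd' one
    exact_mod_cast e1.symm
  have hnΘ : ∀ θ ∈ Θ, n θ * d θ = h + 1 := by
    intro θ hθ
    obtain ⟨μ, hμ, rfl⟩ := Finset.mem_image.mp hθ
    have e1 : (n (Th μ) : ℂ) = 1 := by
      rw [← hn', hThv μ hμ]
      exact hψμ μ (Finset.mem_erase.mp hμ).2
    have e2 : (d (Th μ) : ℂ) = ((h + 1 : ℕ) : ℂ) := by rw [← hd', hTh1 μ hμ]; push_cast; rfl
    have e3 : d (Th μ) = h + 1 := by exact_mod_cast e2
    have e4 : n (Th μ) = 1 := by exact_mod_cast e1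
    rw [e3, e4, one_mul]
  have hlow : ∑ φ ∈ insert one Θ, n φ * d φ ≤ ∑ φ, n φ * d φ :=
    Finset.sum_le_univ_sum_of_nonneg fun _ => Nat.zero_le _
  rw [Finset.sum_insert (fun h => honeΘ (Finset.mem_insert_of_mem h)), hn1, hd1, Finset.sum_congr rfl hnΘ,
    Finset.sum_const, smul_eq_mul, ← htot] at hlow
  have e5 : 3 * e + 2 ≤ h + 1 := by
    have : e * 3 ≤ e * k := Nat.mul_le_mul_left e hk3
    omega
  have e6 : Θ.card * (3 * e + 2) ≤ Θ.card * (h + 1) := Nat.mul_le_mul_left _ e5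
  rw [← hΘcard] at hlow e6
  nlinarith

end Datum

end CfsgLib.ZassenhausDegree
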