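/-
The degree of a simple Zassenhaus group, and the theorem of Feit.
-/
import Cfsg.Agent.Lib.ZassenhausDegree.EvenCase
import Cfsg.Agent.Lib.ZassenhausDegree.OddCase
import Cfsg.Agent.Lib.CharTheory.SibleyKernel

set_option autoImplicit false
set_option linter.unusedSectionVars false
set_option linter.style.haveILetI false

namespace CfsgLib.ZassenhausDegree

open MulAction Cfsg CfsgLib.CharTheory CfsgLib.Zassenhaus CfsgLib.ZassenhausOdd
open scoped commutatorElement

universe u v

variable {G : Type u} {Ω : Type v} [Group G] [Fintype G] [MulAction G Ω] [Fintype Ω]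

namespace Datum

variable (P : Datum G Ω)

theorem pgroup_of_lt [IsSimpleGroup G] (hodd : Odd (Nat.card P.E)) (hlt : 2 * Nat.card P.E < Nat.card P.H - 1) :
    ∃ p : ℕ, p.Prime ∧ (∃ m : ℕ, Nat.card P.K = p ^ m) ∧ ¬ IsMulCommutative P.K ∧
      (⁅P.K, P.K⁆.subgroupOf P.K).index ≤ 4 * P.K.index ^ 2 + 1 := by
  classical
  obtain ⟨hτ, hτ1⟩ := induced_isometry P.A P.K rfl P.ti
  refine (feit_coherence P.K P.K_ne_bot P.K_lt_top.ne P.centralizer_le (fun _ => ?_) hτ hτ1).resolve_left
    fun hcoh => P.false_of_coherent hodd hlt hcoh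
  rw [P.card_K, P.index_K]
  omega

theorem isPrimePow_card [IsSimpleGroup G] : IsPrimePow (Nat.card P.H) := by
  by_cases hle : Nat.card P.H - 1 ≤ 2 * Nat.card P.E
  · exact P.isPrimePow_of_le hle
  rcases Nat.even_or_odd (Nat.card P.E) with hev | hodd
  · exact absurd (P.le_of_even hev) hle
  obtain ⟨p, hp, ⟨m, hm⟩, -, -⟩ := P.pgroup_of_lt hodd (not_le.mp hle)
  rw [P.card_K] at hm
  refine ⟨p, m, hp.prime, Nat.pos_of_ne_zero fun h0 => ?_, hm.symm⟩
  have := P.two_le
  rw [h0, pow_zero] at hm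
  omega

/-- If the order of the stabiliser is odd then so is the order of the two-point stabiliser, and coherence follows. -/
theorem coherent_of_odd [Fintype P.A] (hodd : Odd (Nat.card P.E)) (hH : Odd (Nat.card P.H))
    (hnil : Group.IsNilpotent P.H) :
    IsCoherent (inducedIrrAbove P.K ⊥) {1}ᶜ (fun α : P.A → ℂ => indFun P.A α) := by
  have hN : Subgroup.normalizer (P.H : Set G) = P.A := by
    ext g
    constructor
    · intro hg
      obtain ⟨u, hu, hu1⟩ := (Subgroup.bot_or_exists_ne_one P.H).resolve_left fun h => by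
        have := P.two_le
        rw [h, Subgroup.card_bot] at this
        omega
      exact P.fix_of_conj hu ((Subgroup.mem_normalizer_iff.mp hg u).mp hu) hu1
    · intro hg
      rw [Subgroup.mem_normalizer_iff]
      refine fun u => ⟨fun hu => P.conj_mem hg hu, fun hu => ?_⟩
      have := P.conj_mem (inv_mem hg) hu
      rwa [inv_inv, show g⁻¹ * (g * u * g⁻¹) * g = u by group] at this
  refine sibley_ti_kernel P.H P.A P.le hN (by rw [P.card_A]; exact hH.mul hodd) ?_ P.K_lt_top hnil ?_ P.centralizer_le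
  · intro h
    have := P.two_le
    rw [h, Subgroup.card_bot] at this
    omega
  · intro g hg x hx hgx
    by_contra h1
    exact hg (hN ▸ P.fix_of_conj hx hgx h1)

theorem nilpotent_H : Group.IsNilpotent P.H := by
  classical
  haveI := nilpotent_of_centralizer_kernel P.K P.K_lt_top.ne P.centralizer_le
  exact Group.nilpotent_of_mulEquiv (Subgroup.subgroupOfEquivOfLe P.le)

/-- A minimal normal subgroup gives a simple Zassenhaus group with the same kernel. -/
theorem exists_simple : ∃ (N : Subgroup G) (Q : Datum N Ω), IsSimpleGroup N ∧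
    Q.H.map N.subtype = P.H ∧ Nat.card Q.E ∣ Nat.card P.E := by
  classical
  have hZ := P.isZ
  haveI := hZ.1
  have hreg := hZ.2.2.2.2
  obtain ⟨N, ⟨hNn, hN⟩, hmin⟩ := (wellFounded_lt (α := Subgroup G)).has_min
    {N | N.Normal ∧ N ≠ ⊥} ⟨⊤, inferInstance, fun h => by
      have h1 := Nat.card_congr (Subgroup.topEquiv (G := G)).toEquiv
      rw [h, Subgroup.card_bot, P.card_G] at h1
      have := Nat.mul_le_mul (Nat.mul_le_mul (show 1 ≤ Nat.card P.H + 1 by omega) P.two_le) P.two_le_E
      rw [← h1] at this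
      omega⟩
  haveI := hNn
  have hle : ∀ g : G, ∀ u ∈ P.H, g * u * g⁻¹ ∈ N := fun g u hu => hNn.conj_mem u
    (CfsgLib.ZassenhausNormal.kernel_le hZ.2.1 hZ.2.2.1 hZ.2.2.2.1 hN hreg P.a P.le
      (fun x hx y hy => P.conj_mem hx hy) P.fix hu) g
  have hHN : P.H ≤ N := fun u hu => by simpa using hle 1 u hu
  have hNZ := CfsgLib.ZassenhausNormal.normal_isZassenhaus hZ.2.1 hZ.2.2.1 hZ.2.2.2.1 hN hreg
  let Q : Datum N Ω :=
    { isZ := hNZ, a := P.a, b := P.b, hab := P.hab, H := P.H.subgroupOf N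
      le := fun u hu => P.le (Subgroup.mem_subgroupOf.mp hu)
      card := by rw [Nat.card_congr (Subgroup.subgroupOfEquivOfLe hHN).toEquiv]; exact P.card
      fix := fun u hu hu1 c hc =>
        P.fix u (Subgroup.mem_subgroupOf.mp hu) (fun h => hu1 (Subtype.ext h)) c hc }
  refine ⟨N, Q, ?_, Subgroup.map_subgroupOf_eq_of_le hHN, ?_⟩
  · haveI : Nontrivial N := (Subgroup.nontrivial_iff_ne_bot N).mpr hN
    refine ⟨fun M hM => or_iff_not_imp_left.mpr fun hMbot => ?_⟩
    haveI := hM
    haveI := hNZ.1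
    set J := Subgroup.normalClosure (P.H : Set G) with hJ
    have hJM : J ≤ M.map N.subtype := by
      rw [hJ, Subgroup.normalClosure, Subgroup.closure_le]
      intro x hx
      obtain ⟨u, hu, hux⟩ := Group.mem_conjugatesOfSet_iff.mp hx
      obtain ⟨g, rfl⟩ := isConj_iff.mp hux
      let R : Subgroup N := (P.H.map (MulAut.conj g).toMonoidHom).subgroupOf N
      have hR : R ≤ M := by
        refine CfsgLib.ZassenhausNormal.kernel_le hNZ.2.1 hNZ.2.2.1 hNZ.2.2.2.1 hMbot hNZ.2.2.2.2 (g • P.a)
          (Q := R) ?_ ?_ ?_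
        · intro y hy
          obtain ⟨v, hv, e⟩ := Subgroup.mem_subgroupOf.mp hy
          show (y : G) • (g • P.a) = g • P.a
          rw [← e]
          show (g * v * g⁻¹) • (g • P.a) = g • P.a
          rw [mul_smul, mul_smul, inv_smul_smul, P.mem_A.mp (P.le hv)]
        · intro t ht y hy
          obtain ⟨v, hv, e⟩ := Subgroup.mem_subgroupOf.mp hy
          have ht' : (t : G) • (g • P.a) = g • P.a := ht
          refine Subgroup.mem_subgroupOf.mpr ⟨g⁻¹ * t * g * v * (g⁻¹ * t * g)⁻¹, ?_, ?_⟩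
          · exact P.conj_mem (P.mem_A.mpr (by rw [mul_smul, mul_smul, ht', inv_smul_smul])) hv
          · show g * (g⁻¹ * t * g * v * (g⁻¹ * t * g)⁻¹) * g⁻¹ = (t : G) * y * (t : G)⁻¹
            rw [← e]
            show _ = (t : G) * (g * v * g⁻¹) * (t : G)⁻¹
            group
        · intro y hy hy1 c hc
          obtain ⟨v, hv, e⟩ := Subgroup.mem_subgroupOf.mp hy
          have e' : g * v * g⁻¹ = (y : G) := e
          have hv1 : v ≠ 1 := fun h => hy1 (Subtype.ext (by rw [← e', h]; simp))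
          have hc' : (y : G) • c = c := hc
          rw [← e', mul_smul, mul_smul, ← eq_inv_smul_iff] at hc'
          exact inv_smul_eq_iff.mp (P.fix v hv hv1 _ hc')
      exact ⟨⟨g * u * g⁻¹, hle g u hu⟩, hR (Subgroup.mem_subgroupOf.mpr ⟨u, hu, rfl⟩), rfl⟩
    have hJN : J = N := by
      have h1 : J ≤ N := hJM.trans (Subgroup.map_subtype_le M)
      by_contra hne
      refine hmin J ⟨Subgroup.normalClosure_normal, fun h => ?_⟩ (lt_of_le_of_ne h1 hne)
      have h2 : P.H ≤ J := fun u hu => Subgroup.subset_normalClosure hu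
      rw [h, le_bot_iff] at h2
      have := P.two_le
      rw [h2, Subgroup.card_bot] at this
      omega
    rw [eq_top_iff]
    intro y _
    have hy : (y : G) ∈ J := by rw [hJN]; exact y.2
    obtain ⟨z, hz, e⟩ := hJM hy
    rwa [← Subtype.ext e]
  · have : Q.E.map N.subtype ≤ P.E := by
      rintro _ ⟨y, hy, rfl⟩
      obtain ⟨h1, h2⟩ := Q.mem_E.mp hy
      exact P.mem_E.mpr ⟨h1, h2⟩
    rw [← Subgroup.card_map_of_injective (K := Q.E) N.subtype_injective]
    exact Subgroup.card_dvd_of_le this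

/-- The theorem of Feit. -/
theorem feit (hodd : Odd (Nat.card P.E)) :
    Nat.card P.H - 1 ≤ 2 * Nat.card P.E ∨
      (IsPGroup 2 P.H ∧ (∃ u v : P.H, u * v ≠ v * u) ∧ (commutator P.H).index ≤ 4 * Nat.card P.E ^ 2 + 1) := by
  classical
  refine or_iff_not_imp_left.mpr fun hlt => ?_
  obtain ⟨N, Q, hsimple, hmap, hdvd⟩ := P.exists_simple
  haveI := hsimple
  have hcard : Nat.card Q.H = Nat.card P.H := by
    rw [← hmap, Subgroup.card_map_of_injective N.subtype_injective]
  have hEle : Nat.card Q.E ≤ Nat.card P.E := Nat.le_of_dvd Nat.card_pos hdvd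
  have hQlt : 2 * Nat.card Q.E < Nat.card Q.H - 1 := by omega
  have hQodd : Odd (Nat.card Q.E) := hodd.of_dvd_nat hdvd
  obtain ⟨p, hp, ⟨m, hm⟩, hnc, hidx⟩ := Q.pgroup_of_lt hQodd hQlt
  have hp2 : p = 2 := by
    by_contra hne
    have hpo : Odd (Nat.card Q.H) := by
      rw [← Q.card_K, hm]
      exact (hp.odd_of_ne_two hne).pow
    exact Q.false_of_coherent hQodd hQlt (Q.coherent_of_odd hQodd hpo Q.nilpotent_H)
  subst hp2
  let f : Q.K ≃* P.H :=
    (Subgroup.subgroupOfEquivOfLe Q.le).trans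
      ((Q.H.equivMapOfInjective N.subtype N.subtype_injective).trans (MulEquiv.subgroupCongr hmap))
  refine ⟨?_, ?_, ?_⟩
  · haveI := Fact.mk Nat.prime_two
    exact IsPGroup.of_card (n := m) (by rw [← hcard, ← Q.card_K, hm])
  · by_contra hcon
    push Not at hcon
    exact hnc ⟨⟨fun x y => f.injective (by rw [map_mul, map_mul]; exact hcon _ _)⟩⟩
  · have e1 : ⁅Q.K, Q.K⁆.subgroupOf Q.K = commutator Q.K := by
      rw [← Subgroup.map_subtype_commutator Q.K, Subgroup.subgroupOf,
        Subgroup.comap_map_eq_self_of_injective Q.K.subtype_injective]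
    have e2 : (commutator Q.K).map (f : Q.K →* P.H) = commutator P.H := by
      rw [commutator_def, commutator_def, Subgroup.map_commutator, Subgroup.map_top_of_surjective _ f.surjective]
    rw [e1, Q.index_K] at hidx
    have e3 : (commutator P.H).index = (commutator Q.K).index := by rw [← e2, Subgroup.index_map_equiv]
    rw [e3]
    exact hidx.trans (Nat.add_le_add_right (Nat.mul_le_mul_left 4 (Nat.pow_le_pow_left hEle 2)) 1)

end Datum

end CfsgLib.ZassenhausDegree
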