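/-
A finite Zassenhaus group with an even regular two-point stabiliser is not simple.
-/
import Cfsg.Agent.Lib.ZassenhausDegree.Basic
import Cfsg.Agent.Lib.Perm.SharpThreeIndexTwo
import Cfsg.Agent.Lib.CharTheory.Linear

set_option autoImplicit false
set_option linter.unusedSectionVars false
set_option linter.style.haveILetI false

namespace CfsgLib.ZassenhausDegree

open MulAction Cfsg CfsgLib.CharTheory CfsgLib.Zassenhaus CfsgLib.ZassenhausOdd
open scoped ComplexConjugate

universe u v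

variable {G : Type u} {Ω : Type v} [Group G] [Fintype G] [MulAction G Ω] [Fintype Ω]

namespace Datum

variable (P : Datum G Ω)

theorem regular_of_gt (hgt : Nat.card P.H - 1 < 2 * Nat.card P.E) {c c' : Ω}
    (hca : c ≠ P.a) (hcb : c ≠ P.b) (hca' : c' ≠ P.a) (hcb' : c' ≠ P.b) : ∃ d ∈ P.E, d • c = c' := by
  classical
  by_contra hcon
  push Not at hcon
  have hinj : ∀ x : Ω, x ≠ P.a → x ≠ P.b → Function.Injective fun d : P.E => (d : G) • x := by
    intro x hxa hxb d d' e
    obtain ⟨h1, h2⟩ := P.mem_E.mp d.2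
    obtain ⟨h1', h2'⟩ := P.mem_E.mp d'.2
    refine Subtype.ext (inv_mul_eq_one.mp (eq_one_of_three P.isZ (g := (d' : G)⁻¹ * d) P.hab hxb.symm hxa.symm
      (by rw [mul_smul, h1, inv_smul_eq_iff, h1']) (by rw [mul_smul, h2, inv_smul_eq_iff, h2']) ?_)).symm
    rw [mul_smul, show (d : G) • x = (d' : G) • x from e, inv_smul_smul]
  letI : Fintype P.E := Fintype.ofFinite _
  set O : Ω → Finset Ω := fun x => (Finset.univ : Finset P.E).image fun d : P.E => (d : G) • x
  have hd : Disjoint (O c) (O c') := Finset.disjoint_left.mpr fun z h1 h2 => by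
    obtain ⟨d, -, rfl⟩ := Finset.mem_image.mp h1
    obtain ⟨d', -, e⟩ := Finset.mem_image.mp h2
    exact hcon ((d' : G)⁻¹ * d) (mul_mem (inv_mem d'.2) d.2) (by rw [mul_smul, ← e, inv_smul_smul])
  have hsub : ∀ x : Ω, x ≠ P.a → x ≠ P.b → O x ⊆ (Finset.univ.erase P.a).erase P.b := by
    intro x hxa hxb z hz
    obtain ⟨d, -, rfl⟩ := Finset.mem_image.mp hz
    obtain ⟨h1, h2⟩ := P.mem_E.mp d.2
    exact Finset.mem_erase.mpr ⟨fun e => hxb (MulAction.injective (d : G) (e.trans h2.symm)),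
      Finset.mem_erase.mpr ⟨fun e => hxa (MulAction.injective (d : G) (e.trans h1.symm)), Finset.mem_univ _⟩⟩
  have h := Finset.card_le_card (Finset.union_subset (hsub c hca hcb) (hsub c' hca' hcb'))
  rw [Finset.card_union_of_disjoint hd, Finset.card_image_of_injective _ (hinj c hca hcb),
    Finset.card_image_of_injective _ (hinj c' hca' hcb'), Finset.card_univ,
    Finset.card_erase_of_mem (Finset.mem_erase.mpr ⟨P.hab.symm, Finset.mem_univ _⟩),
    Finset.card_erase_of_mem (Finset.mem_univ _), Finset.card_univ, ← P.card, ← Nat.card_eq_fintype_card] at h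
  omega

theorem exists_triple (hgt : Nat.card P.H - 1 < 2 * Nat.card P.E) {x y z x' y' z' : Ω} (hxy : x ≠ y) (hxz : x ≠ z)
    (hyz : y ≠ z) (hxy' : x' ≠ y') (hxz' : x' ≠ z') (hyz' : y' ≠ z') :
    ∃ g : G, g • x = x' ∧ g • y = y' ∧ g • z = z' := by
  obtain ⟨g1, h1, h1'⟩ := exists_smul_pair P.isZ hxy P.hab
  obtain ⟨g2, h2, h2'⟩ := exists_smul_pair P.isZ hxy' P.hab
  obtain ⟨d, hd, e⟩ := P.regular_of_gt hgt (c := g1 • z) (c' := g2 • z')
    (fun e => hxz (MulAction.injective g1 (h1.trans e.symm))) (fun e => hyz (MulAction.injective g1 (h1'.trans e.symm)))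
    (fun e => hxz' (MulAction.injective g2 (h2.trans e.symm))) (fun e => hyz' (MulAction.injective g2 (h2'.trans e.symm)))
  obtain ⟨hda, hdb⟩ := P.mem_E.mp hd
  refine ⟨g2⁻¹ * (d * g1), ?_, ?_, ?_⟩ <;> rw [mul_smul, mul_smul, inv_smul_eq_iff]
  · rw [h1, hda, h2]
  · rw [h1', hdb, h2']
  · exact e

theorem exists_sign (hgt : Nat.card P.H - 1 < 2 * Nat.card P.E) (hev : Even (Nat.card P.E)) :
    ∃ (s : G) (lam : P.E →* ℂˣ), s * s = 1 ∧ s • P.a = P.b ∧ s • P.b = P.a ∧ lam ≠ 1 ∧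
      ∀ d d' : P.E, (d' : G) = s * d * s⁻¹ → lam d' = lam d := by
  classical
  haveI := P.isZ.1
  let ρ : G →* Equiv.Perm Ω := toPermHom G Ω
  have hρ : Function.Injective ρ := fun g g' e =>
    eq_of_smul_eq_smul (α := Ω) fun x => Equiv.congr_fun e x
  let G' := ρ.range
  let φ : G ≃* G' := MonoidHom.ofInjective hρ
  have hφ : ∀ (g : G) (x : Ω), φ g • x = g • x := fun g x => rfl
  have h4 : 4 ≤ Fintype.card Ω ∧ Even (Fintype.card Ω) := by
    have h2 := P.two_le_E
    obtain ⟨c, hc⟩ : ∃ c : Ω, c ∉ ({P.a, P.b} : Finset Ω) := by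
      by_contra hall
      push Not at hall
      have := (Finset.card_le_card (fun x (_ : x ∈ Finset.univ) => hall x)).trans Finset.card_le_two
      have := card_ge_three P.isZ
      rw [Finset.card_univ] at *
      omega
    simp only [Finset.mem_insert, Finset.mem_singleton, not_or] at hc
    have e : Nat.card P.E = Nat.card {x : Ω // x ≠ P.a ∧ x ≠ P.b} := by
      refine Nat.card_eq_of_bijective (fun d : P.E => ⟨(d : G) • c,
        fun e => hc.1 (MulAction.injective (d : G) (e.trans (P.mem_E.mp d.2).1.symm)),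
        fun e => hc.2 (MulAction.injective (d : G) (e.trans (P.mem_E.mp d.2).2.symm))⟩) ⟨fun d d' e => ?_, fun x => ?_⟩
      · have e' : (d : G) • c = (d' : G) • c := congrArg Subtype.val e
        obtain ⟨h1, h2⟩ := P.mem_E.mp d.2
        obtain ⟨h1', h2'⟩ := P.mem_E.mp d'.2
        exact Subtype.ext (inv_mul_eq_one.mp (eq_one_of_three P.isZ (g := (d' : G)⁻¹ * d) P.hab (Ne.symm hc.2)
          (Ne.symm hc.1) (by rw [mul_smul, h1, inv_smul_eq_iff, h1']) (by rw [mul_smul, h2, inv_smul_eq_iff, h2'])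
          (by rw [mul_smul, e', inv_smul_smul]))).symm
      · obtain ⟨d, hd, e⟩ := P.regular_of_gt hgt hc.1 hc.2 x.2.1 x.2.2
        exact ⟨⟨d, hd⟩, Subtype.ext e⟩
    have e2 : Nat.card {x : Ω // x ≠ P.a ∧ x ≠ P.b} = Fintype.card Ω - 2 := by
      rw [Nat.card_eq_fintype_card, Fintype.card_subtype,
        show (Finset.univ.filter fun x : Ω => x ≠ P.a ∧ x ≠ P.b) = (Finset.univ.erase P.a).erase P.b by
          ext x; simp [and_comm],
        Finset.card_erase_of_mem (Finset.mem_erase.mpr ⟨P.hab.symm, Finset.mem_univ _⟩),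
        Finset.card_erase_of_mem (Finset.mem_univ _), Finset.card_univ]
      omega
    have := card_ge_three P.isZ
    obtain ⟨r, hr⟩ := hev
    exact ⟨by omega, ⟨r + 1, by omega⟩⟩
  have h3' : IsMultiplyPretransitive G' Ω 3 := by
    refine ⟨fun x y => ?_⟩
    have hx : ∀ (x : Fin 3 ↪ Ω) (i j : Fin 3), i ≠ j → x i ≠ x j := fun x i j h e => h (x.injective e)
    obtain ⟨g, e0, e1, e2⟩ := P.exists_triple hgt (hx x 0 1 (by decide)) (hx x 0 2 (by decide))
      (hx x 1 2 (by decide)) (hx y 0 1 (by decide)) (hx y 0 2 (by decide)) (hx y 1 2 (by decide))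
    refine ⟨φ g, Function.Embedding.ext fun i => ?_⟩
    rw [Function.Embedding.smul_apply, hφ]
    fin_cases i <;> assumption
  have hsharp : ∀ x : Fin 3 ↪ Ω, stabilizer G' x = ⊥ := by
    intro x
    refine (Subgroup.eq_bot_iff_forall _).mpr fun g hg => ?_
    obtain ⟨g, rfl⟩ := φ.surjective g
    have hi : ∀ i, g • x i = x i := fun i => DFunLike.congr_fun (mem_stabilizer_iff.mp hg) i
    rw [eq_one_of_three P.isZ (fun e => absurd (x.injective e) (by decide : (0 : Fin 3) ≠ 1))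
      (fun e => absurd (x.injective e) (by decide : (1 : Fin 3) ≠ 2))
      (fun e => absurd (x.injective e) (by decide : (0 : Fin 3) ≠ 2)) (hi 0) (hi 1) (hi 2), map_one]
  obtain ⟨c, hc⟩ : ∃ c : Ω, c ∉ ({P.a, P.b} : Finset Ω) := by
    by_contra hall
    push Not at hall
    have := (Finset.card_le_card (fun x (_ : x ∈ Finset.univ) => hall x)).trans Finset.card_le_two
    rw [Finset.card_univ] at *
    omega
  simp only [Finset.mem_insert, Finset.mem_singleton, not_or] at hc
  obtain ⟨s, hsa, hsb, hsc⟩ := P.exists_triple hgt P.hab (Ne.symm hc.1) (Ne.symm hc.2) P.hab.symm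
    (Ne.symm hc.2) (Ne.symm hc.1)
  have hss : s * s = 1 := eq_one_of_three P.isZ P.hab (Ne.symm hc.2) (Ne.symm hc.1)
    (by rw [mul_smul, hsa, hsb]) (by rw [mul_smul, hsb, hsa]) (by rw [mul_smul, hsc, hsc])
  obtain ⟨lam, hlam, hinv⟩ := CfsgLib.SharpIndexTwo.exists_invariant_linear (G := G') (s := φ s)
    hsharp h3' h4.2 h4.1 P.hab (Ne.symm hc.1) (Ne.symm hc.2) hsa hsb hsc
  let ψ : P.E →* CfsgLib.SharpIndexTwo.D G' P.a P.b :=
    { toFun := fun d => ⟨φ d, CfsgLib.SharpIndexTwo.mem_D.mpr (P.mem_E.mp d.2)⟩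
      map_one' := Subtype.ext (map_one φ)
      map_mul' := fun d d' => Subtype.ext (map_mul φ (d : G) (d' : G)) }
  refine ⟨s, lam.comp ψ, hss, hsa, hsb, fun h => hlam ?_, fun d d' e => hinv _ _ ?_⟩
  · ext x
    obtain ⟨g, hg⟩ := φ.surjective (x : G')
    have hgE : g ∈ P.E := P.mem_E.mpr (by
      have := CfsgLib.SharpIndexTwo.mem_D.mp x.2
      rwa [← hg] at this)
    have := DFunLike.congr_fun h ⟨g, hgE⟩
    rw [show x = ψ ⟨g, hgE⟩ from Subtype.ext hg.symm]
    exact congrArg (fun t : ℂˣ => (t : ℂ)) this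
  · show φ (d' : G) = φ s * φ (d : G) * (φ s)⁻¹
    rw [e, map_mul, map_mul, map_inv]

theorem not_simple_of_gt (hgt : Nat.card P.H - 1 < 2 * Nat.card P.E) (hev : Even (Nat.card P.E)) :
    ¬ IsSimpleGroup G := by
  classical
  intro hsimple
  letI : Fintype P.A := Fintype.ofFinite _
  letI : Fintype P.K := Fintype.ofFinite _
  letI : Fintype P.H := Fintype.ofFinite _
  obtain ⟨s, lam, hss, hsa, hsb, hlam, hinv⟩ := P.exists_sign hgt hev
  have hsconj : ∀ d ∈ P.E, s * d * s⁻¹ ∈ P.E := fun d hd => by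
    obtain ⟨h1, h2⟩ := P.mem_E.mp hd
    refine P.mem_E.mpr ⟨?_, ?_⟩ <;> rw [inv_eq_of_mul_eq_one_right hss, mul_smul, mul_smul]
    · rw [hsa, h2, hsb]
    · rw [hsb, h1, hsa]
  -- extension to the stabiliser
  choose uu huu dd hdd hxe using fun x : P.A => P.decomp x.2
  have huniq : ∀ (x : P.A) (u d : G), u ∈ P.H → d ∈ P.E → (x : G) = u * d → dd x = d := by
    intro x u d hu hd e
    have e1 : uu x * dd x = u * d := (hxe x).symm.trans e
    have e2 : u⁻¹ * uu x = d * (dd x)⁻¹ := by rw [inv_mul_eq_iff_eq_mul, ← mul_assoc, eq_mul_inv_iff_mul_eq]; exact e1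
    have e3 : u⁻¹ * uu x = 1 :=
      P.disjoint (mul_mem (inv_mem hu) (huu x)) (by rw [e2]; exact mul_mem hd (inv_mem (hdd x)))
    rw [← inv_mul_eq_one.mp e3] at e1
    exact mul_left_cancel e1
  let Λ : P.A →* ℂˣ :=
    { toFun := fun x => lam ⟨dd x, hdd x⟩
      map_one' := by
        rw [show (⟨dd 1, hdd 1⟩ : P.E) = 1 from Subtype.ext (huniq 1 1 1 (one_mem _) (one_mem _) (by simp)), map_one]
      map_mul' := fun x y => by
        rw [← map_mul]
        congr 1
        refine Subtype.ext (huniq (x * y) (uu x * (dd x * uu y * (dd x)⁻¹)) (dd x * dd y)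
          (mul_mem (huu x) (P.conj_mem (Subgroup.mem_inf.mp (hdd x)).1 (huu y))) (mul_mem (hdd x) (hdd y)) ?_)
        rw [Subgroup.coe_mul, hxe x, hxe y]
        group }
  have hΛH : ∀ x : P.A, (x : G) ∈ P.H → Λ x = 1 := fun x hx => by
    show lam ⟨dd x, hdd x⟩ = 1
    rw [show (⟨dd x, hdd x⟩ : P.E) = 1 from Subtype.ext (huniq x x 1 hx (one_mem _) (mul_one _).symm), map_one]
  have hΛE : ∀ (x : P.A) (h : (x : G) ∈ P.E), Λ x = lam ⟨x, h⟩ := fun x h => by
    show lam ⟨dd x, hdd x⟩ = _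
    rw [show (⟨dd x, hdd x⟩ : P.E) = ⟨x, h⟩ from Subtype.ext (huniq x 1 x (one_mem _) h (one_mul _).symm)]
  let μ : P.A → ℂ := fun x => (Λ x : ℂ)
  have hμ : IsIrrCharacter P.A μ := isIrrCharacter_linear Λ
  have hμc := isClassFunction_irr hμ
  have hμne : μ ≠ fun _ => 1 := fun e => hlam (by
    ext d
    have hd := (Subgroup.mem_inf.mp d.2).1
    rw [← hΛE ⟨d, hd⟩ d.2]
    exact congrFun e ⟨d, hd⟩)
  have hunit : ∀ x : P.A, μ x * conj (μ x) = 1 := fun x => by
    have h1 : μ x ^ Nat.card P.A = 1 := by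
      show (Λ x : ℂ) ^ Nat.card P.A = 1
      rw [← Units.val_pow_eq_pow_val, ← map_pow, pow_card_eq_one', map_one, Units.val_one]
    rw [Complex.mul_conj', Complex.norm_eq_one_of_pow_eq_one h1 Nat.card_pos.ne']
    norm_num
  -- the induced character as a sum over points
  choose w hw hwb using fun c : {c : Ω // c ≠ P.a} => P.exists_move c.2
  let k : Ω → G := fun c => if hc : c = P.a then 1 else w ⟨c, hc⟩ * s
  have hka : ∀ c, k c • P.a = c := fun c => by
    by_cases hc : c = P.a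
    · simp [k, hc]
    · simp only [k, dif_neg hc]
      rw [mul_smul, hsa, hwb ⟨c, hc⟩]
  let F : Ω → G → ℂ := fun c g => extendByZero P.A μ ((k c)⁻¹ * g * k c)
  have hval : ∀ g : G, indFun P.A μ g = ∑ c : Ω, F c g := by
    intro g
    simp only [indFun]
    rw [← Finset.sum_fiberwise_of_maps_to (g := fun x : G => x • P.a) (t := (Finset.univ : Finset Ω))
      (fun x _ => Finset.mem_univ _), Finset.mul_sum]
    refine Finset.sum_congr rfl fun c _ => ?_
    have hconst : ∀ x ∈ Finset.univ.filter (fun x : G => x • P.a = c),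
        extendByZero P.A μ (x⁻¹ * g * x) = F c g := by
      intro x hx
      have hα : (k c)⁻¹ * x ∈ P.A := P.mem_A.mpr (by
        rw [mul_smul, (Finset.mem_filter.mp hx).2, inv_smul_eq_iff, hka])
      set α : P.A := ⟨_, hα⟩ with hαdef
      show extendByZero P.A μ (x⁻¹ * g * x) = extendByZero P.A μ ((k c)⁻¹ * g * k c)
      rw [show x⁻¹ * g * x = (α : G)⁻¹ * ((k c)⁻¹ * g * k c) * α by rw [hαdef]; group]
      by_cases hy : (k c)⁻¹ * g * k c ∈ P.A
      · rw [extendByZero_of_mem P.A μ (mul_mem (mul_mem (inv_mem α.2) hy) α.2), extendByZero_of_mem P.A μ hy]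
        show (Λ (α⁻¹ * ⟨_, hy⟩ * α) : ℂ) = Λ ⟨_, hy⟩
        rw [map_mul, map_mul, map_inv, mul_comm (Λ α)⁻¹, inv_mul_cancel_right]
      · rw [extendByZero_of_not_mem P.A μ hy, extendByZero_of_not_mem P.A μ]
        intro h
        have := mul_mem (mul_mem α.2 h) (inv_mem α.2)
        rw [show (α : G) * ((α : G)⁻¹ * ((k c)⁻¹ * g * k c) * α) * (α : G)⁻¹ = (k c)⁻¹ * g * k c by group] at this
        exact hy this
    rw [Finset.sum_congr rfl hconst, Finset.sum_const, nsmul_eq_mul, ← mul_assoc]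
    have hcard : ((Finset.univ : Finset G).filter fun x => x • P.a = c).card = Nat.card P.A := by
      rw [← Fintype.card_subtype, ← Nat.card_eq_fintype_card]
      exact Nat.card_congr
        { toFun := fun x => ⟨(k c)⁻¹ * x.1, P.mem_A.mpr (by rw [mul_smul, x.2, inv_smul_eq_iff, hka])⟩
          invFun := fun x => ⟨k c * x.1, by rw [mul_smul, P.mem_A.mp x.2, hka]⟩
          left_inv := fun x => Subtype.ext (mul_inv_cancel_left _ _)
          right_inv := fun x => Subtype.ext (inv_mul_cancel_left _ _) }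
    rw [hcard, inv_mul_cancel₀ (Nat.cast_ne_zero.mpr Nat.card_pos.ne'), one_mul]
  have hF0 : ∀ c g, F c g ≠ 0 → g • c = c := by
    intro c g h
    by_contra hne
    refine h (extendByZero_of_not_mem P.A μ fun hm => hne ?_)
    rw [mem_stabilizer_iff, mul_smul, mul_smul, hka, inv_smul_eq_iff, hka] at hm
    exact hm
  have hFa : ∀ α : P.A, F P.a α = μ α := fun α => by
    simp only [F, k, dif_pos, inv_one, one_mul, mul_one]
    exact extendByZero_coe P.A μ α
  have hFc : ∀ (c : Ω) (hc : c ≠ P.a) (α : P.A), (α : G) • c = c → F c α = μ α := by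
    intro c hc α hαc
    simp only [F, k, dif_neg hc]
    set v := w ⟨c, hc⟩ with hv
    have hvH : v ∈ P.H := hw _
    set d := v⁻¹ * (α : G) * v with hd
    have hdE : d ∈ P.E := P.mem_E.mpr ⟨by
      rw [hd, mul_smul, mul_smul, P.mem_A.mp (P.le hvH), P.mem_A.mp α.2, inv_smul_eq_iff, P.mem_A.mp (P.le hvH)],
      by rw [hd, mul_smul, mul_smul, hv, hwb ⟨c, hc⟩, hαc, inv_smul_eq_iff, hwb ⟨c, hc⟩]⟩
    have hd' := hsconj d hdE
    rw [show (v * s)⁻¹ * (α : G) * (v * s) = s * d * s⁻¹ by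
      rw [hd, inv_eq_of_mul_eq_one_right hss, mul_inv_rev, inv_eq_of_mul_eq_one_right hss]; group]
    rw [extendByZero_of_mem P.A μ (Subgroup.mem_inf.mp hd').1]
    show (Λ _ : ℂ) = Λ α
    rw [hΛE _ hd', hinv ⟨d, hdE⟩ ⟨_, hd'⟩ rfl, ← hΛE ⟨d, (Subgroup.mem_inf.mp hdE).1⟩ hdE,
      show (⟨d, (Subgroup.mem_inf.mp hdE).1⟩ : P.A) = ⟨v, P.le hvH⟩⁻¹ * α * ⟨v, P.le hvH⟩ from Subtype.ext hd,
      map_mul, map_mul, map_inv, hΛH ⟨v, P.le hvH⟩ hvH, inv_one, one_mul, mul_one]
  have hnorm : classInner (indFun P.A μ) (indFun P.A μ) = 2 := by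
    rw [frobenius_reciprocity P.A μ (indFun_isClassFunction P.A μ)]
    simp only [classInner, hval, map_sum, Finset.mul_sum]
    rw [Finset.sum_comm, ← Finset.add_sum_erase _ _ (Finset.mem_univ P.a),
      Finset.sum_congr (s₁ := Finset.univ.erase P.a) rfl (fun c hc => ?_)
      (g := fun _ => (Nat.card P.A : ℂ)⁻¹ * (Nat.card P.E : ℂ))]
    · rw [Finset.sum_congr rfl fun α _ => by rw [hFa, hunit, mul_one], Finset.sum_const, Finset.sum_const,
        Finset.card_erase_of_mem (Finset.mem_univ _), Finset.card_univ, Finset.card_univ, ← P.card,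
        Nat.add_sub_cancel, nsmul_eq_mul, nsmul_eq_mul, ← Nat.card_eq_fintype_card, P.card_A]
      push_cast
      have h1 : (Nat.card P.E : ℂ) ≠ 0 := Nat.cast_ne_zero.mpr Nat.card_pos.ne'
      have h2 : (Nat.card P.H : ℂ) ≠ 0 := Nat.cast_ne_zero.mpr Nat.card_pos.ne'
      field_simp
      ring
    · have hca := Finset.ne_of_mem_erase hc
      rw [← Finset.sum_filter_add_sum_filter_not Finset.univ (fun α : P.A => (α : G) • c = c),
        Finset.sum_eq_zero (s := Finset.univ.filter fun α : P.A => ¬ (α : G) • c = c) (fun α hα => by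
          rw [show F c α = 0 from by
            by_contra hne
            exact (Finset.mem_filter.mp hα).2 (hF0 c α hne), map_zero, mul_zero, mul_zero]), add_zero,
        Finset.sum_congr rfl (fun α hα => by rw [hFc c hca α (Finset.mem_filter.mp hα).2, hunit, mul_one]),
        Finset.sum_const, nsmul_eq_mul, mul_comm, ← Fintype.card_subtype, ← Nat.card_eq_fintype_card,
        show Nat.card P.E = Nat.card (D (G := G) P.a c) from card_D_eq P.isZ P.hab (Ne.symm hca)]
      congr 2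
      exact Nat.card_congr
        { toFun := fun x => ⟨x.1, mem_D.mpr ⟨P.mem_A.mp x.1.2, x.2⟩⟩
          invFun := fun x => ⟨⟨x, (Subgroup.mem_inf.mp x.2).1⟩, (mem_D.mp x.2).2⟩
          left_inv := fun x => rfl
          right_inv := fun x => rfl }
  have hψ : IsCharacter G (indFun P.A μ) := isCharacter_indFun P.A (isCharacter_of_irr hμ)
  obtain ⟨cf, hdec, hcf, hsq⟩ := classInner_self_eq_sum_sq (isGenChar_of_char hψ)
  rw [hnorm] at hsq
  have hsq' : ∑ χ, cf χ ^ 2 = 2 := by exact_mod_cast hsq.symm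
  have hcf0 : ∀ χ, 0 ≤ cf χ := fun χ => by
    obtain ⟨n, hn⟩ := classInner_char_nat hψ (isCharacter_of_irr χ.2)
    have e : (cf χ : ℂ) = ((n : ℤ) : ℂ) := by rw [← hcf χ, hn]; push_cast; rfl
    rw [show cf χ = n by exact_mod_cast e]; positivity
  have hone : cf ⟨fun _ => 1, isIrrCharacter_one⟩ = 0 := by
    have h := hcf ⟨fun _ => 1, isIrrCharacter_one⟩
    rw [frobenius_reciprocity P.A μ (isClassFunction_one (G := G)), classInner_irr_ne hμ isIrrCharacter_one hμne] at h
    exact_mod_cast h.symm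
  -- values on the kernel
  have hFH : ∀ u ∈ P.H, u ≠ 1 → indFun P.A μ u = 1 := by
    intro u hu hu1
    rw [hval, Finset.sum_eq_single P.a]
    · rw [show u = ((⟨u, P.le hu⟩ : P.A) : G) from rfl, hFa]
      show (Λ _ : ℂ) = 1
      rw [hΛH _ hu, Units.val_one]
    · intro c _ hc
      by_contra hne
      exact hc (P.fix u hu hu1 c (hF0 c u hne))
    · exact fun h => absurd (Finset.mem_univ _) h
  obtain ⟨u, hu, hu1⟩ := (Subgroup.bot_or_exists_ne_one P.H).resolve_left fun h => by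
    have := P.two_le
    rw [h, Subgroup.card_bot] at this
    omega
  have hconj : ∀ v ∈ P.H, v ≠ 1 → IsConj u v := by
    intro v hv hv1
    have hne : ∀ v ∈ P.H, v ≠ 1 → v • P.b ≠ P.a ∧ v • P.b ≠ P.b := fun v hv hv1 =>
      ⟨fun e => P.hab.symm (MulAction.injective v (e.trans (P.mem_A.mp (P.le hv)).symm)),
        fun e => P.hab.symm (P.fix v hv hv1 _ e)⟩
    obtain ⟨d, hd, e⟩ := P.regular_of_gt hgt (hne u hu hu1).1 (hne u hu hu1).2 (hne v hv hv1).1 (hne v hv hv1).2
    refine isConj_iff.mpr ⟨d, P.inj_smul (P.conj_mem (Subgroup.mem_inf.mp hd).1 hu) hv P.hab.symm ?_⟩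
    rw [mul_smul, mul_smul, inv_smul_eq_iff.mpr (P.mem_E.mp hd).2.symm, e]
  have hR : ∀ χ : IrrCharacter G, ∃ r : ℕ, (χ : G → ℂ) 1 = (χ : G → ℂ) u + (Nat.card P.H : ℂ) * (r : ℂ) := by
    intro χ
    haveI := nilpotent_of_centralizer_kernel P.K P.K_lt_top.ne P.centralizer_le
    obtain ⟨θ, hθ, hθne, -, hθ1⟩ := exists_linear_above P.K ⊥ inferInstance (bot_lt_iff_ne_bot.mpr P.K_ne_bot)
    obtain ⟨n, hn⟩ := classInner_char_nat
      (isCharacter_restrict (isCharacter_restrict (isCharacter_of_irr χ.2) P.A) P.K) (isCharacter_of_irr hθ)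
    refine ⟨n, ?_⟩
    have h0 : ∑ x : P.K, conj (θ x) = 0 := by
      have := classInner_irr_ne isIrrCharacter_one hθ (fun h => hθne h.symm)
      simp only [classInner, one_mul] at this
      exact (mul_eq_zero.mp this).resolve_left (inv_ne_zero (Nat.cast_ne_zero.mpr Nat.card_pos.ne'))
    simp only [classInner] at hn
    rw [inv_mul_eq_iff_eq_mul₀ (Nat.cast_ne_zero.mpr Nat.card_pos.ne'), P.card_K] at hn
    rw [← Finset.add_sum_erase _ _ (Finset.mem_univ (1 : P.K))] at h0 hn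
    rw [Finset.sum_congr (s₁ := Finset.univ.erase (1 : P.K)) rfl (fun x hx => by
        rw [← isClassFunction_iff_isConj.mp (isClassFunction_irr χ.2) u ((x : P.A) : G)
          (hconj _ (Subgroup.mem_subgroupOf.mp x.2)
            (fun h => Finset.ne_of_mem_erase hx (Subtype.ext (Subtype.ext h))))]),
      ← Finset.mul_sum, eq_neg_of_add_eq_zero_right h0] at hn
    simp only [Subgroup.coe_one, hθ1, map_one] at hn
    linear_combination hn
  choose r hr using hR
  have hh0 : (Nat.card P.H : ℂ) ≠ 0 := Nat.cast_ne_zero.mpr Nat.card_pos.ne'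
  have hr1 : ∑ χ, cf χ * (r χ : ℤ) = 1 := by
    have e1 := congrFun hdec 1
    have e2 := congrFun hdec u
    rw [indFun_apply_one, Finset.sum_apply] at e1
    rw [hFH u hu hu1, Finset.sum_apply] at e2
    simp only [Pi.smul_apply, smul_eq_mul, hr, mul_add, Finset.sum_add_distrib] at e1 e2
    rw [show μ 1 = 1 by show (Λ 1 : ℂ) = 1; rw [map_one, Units.val_one], mul_one, index_stabilizer, ← e2] at e1
    haveI : IsPretransitive G Ω := ⟨fun x y => by
      by_cases h : x = y
      · exact ⟨1, by rw [one_smul, h]⟩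
      · obtain ⟨g, hg, -⟩ := exists_smul_pair P.isZ h (Ne.symm h)
        exact ⟨g, hg⟩⟩
    rw [orbit_eq_univ, Set.ncard_univ, Nat.card_eq_fintype_card (α := Ω), ← P.card] at e1
    have e3 : (Nat.card P.H : ℂ) * (((∑ χ, cf χ * (r χ : ℤ)) : ℤ) : ℂ) = (Nat.card P.H : ℂ) * ((1 : ℤ) : ℂ) := by
      push_cast at e1 ⊢
      rw [Finset.mul_sum]
      rw [Finset.sum_congr rfl (fun χ _ => show (Nat.card P.H : ℂ) * ((cf χ : ℂ) * (r χ : ℂ)) =
        (cf χ : ℂ) * ((Nat.card P.H : ℂ) * (r χ : ℂ)) from by ring)]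
      linear_combination -e1
    exact_mod_cast mul_left_cancel₀ hh0 e3
  -- a constituent with the kernel in its kernel
  obtain ⟨χ, hχc, hχr⟩ : ∃ χ, cf χ ≠ 0 ∧ r χ = 0 := by
    by_contra hall
    push Not at hall
    have h1 : ∑ χ, cf χ ≤ ∑ χ, cf χ * (r χ : ℤ) := Finset.sum_le_sum fun χ _ => by
      by_cases h : cf χ = 0
      · simp [h]
      · have h2 : (1 : ℤ) ≤ r χ := by exact_mod_cast Nat.one_le_iff_ne_zero.mpr (hall χ h)
        nlinarith [hcf0 χ]
    have h3 : ∑ χ, cf χ ^ 2 ≤ (∑ χ, cf χ) ^ 2 :=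
      Finset.sum_sq_le_sq_sum_of_nonneg fun χ _ => hcf0 χ
    have h4 : 0 ≤ ∑ χ, cf χ := Finset.sum_nonneg fun χ _ => hcf0 χ
    nlinarith
  have hker : charKernel (χ : G → ℂ) (isCharacter_of_irr χ.2) ≠ ⊥ := fun h => by
    have : u ∈ charKernel (χ : G → ℂ) (isCharacter_of_irr χ.2) :=
      (mem_charKernel _ u).mpr (by rw [hr χ, hχr]; simp)
    rw [h, Subgroup.mem_bot] at this
    exact hu1 this
  haveI : (charKernel (χ : G → ℂ) (isCharacter_of_irr χ.2)).Normal := by
    refine ⟨fun x hx g => (mem_charKernel _ _).mpr ?_⟩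
    rw [← (mem_charKernel _ x).mp hx]
    exact isClassFunction_irr χ.2 x g
  have htop := (IsSimpleGroup.eq_bot_or_eq_top_of_normal _ inferInstance).resolve_left hker
  refine hχc ?_
  have e := irr_eq_one_of_kernel_top χ.2 fun g => (mem_charKernel (isCharacter_of_irr χ.2) g).mp (htop ▸ Subgroup.mem_top g)
  rw [show χ = ⟨fun _ => 1, isIrrCharacter_one⟩ from Subtype.ext e, hone]

end Datum

end CfsgLib.ZassenhausDegree
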